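import Groth.Agent.EulerSeq.Deriv
import Groth.Agent.Omega.DiagUniv
import Groth.Agent.Omega.Stalks
import Groth.Agent.LFFrame.Basic
import Groth.Agent.ProjProper.Basic

/-!
# `Ω_{P^n_R} ≅ ker (O(-1)^(n+1) ⟶ O)`
-/

set_option autoImplicit false
set_option backward.isDefEq.respectTransparency false
set_option backward.isDefEq.respectTransparency.types false

universe u

open CategoryTheory Limits AlgebraicGeometry TopologicalSpace Opposite MvPolynomial

noncomputable section

namespace Groth.Agent.EulerSeq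

open Twist Groth.Agent.ProjTwist OmegaSh Groth.Agent.PullStalk.Sky Groth.Agent.PullStalk.Exact

variable {n : ℕ} {R : Type u} [CommRing R]

/-- the coordinate function `x_l / x_i` on an open inside `D₊(x_i)` -/
def tFun (i l : Fin (n + 1)) {V : (CohB1.ProjSpace n R).Opens} (hV : V ≤ stdOpen n R i) :
    Γ(CohB1.ProjSpace n R, V) :=
  fracFun (X_mem_polyGrading n R l) (X_mem_polyGrading n R i) hV

theorem tFun_res (i l : Fin (n + 1)) {V W : (CohB1.ProjSpace n R).Opens} (hV : V ≤ stdOpen n R i) (h : W ≤ V) :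
    (CohB1.ProjSpace n R).presheaf.map (homOfLE h).op (tFun i l hV) = tFun i l (h.trans hV) := rfl

theorem X_notMem {i : Fin (n + 1)} {V : (CohB1.ProjSpace n R).Opens} (hV : V ≤ stdOpen n R i)
    {x : ProjectiveSpectrum (CohB1.polyGrading n R)} (hx : x ∈ V) :
    (X i : MvPolynomial (Fin (n + 1)) R) ∈ x.asHomogeneousIdeal.toIdeal.primeCompl :=
  (Proj.mem_basicOpen _ _ _).mp (hV hx)

/-- `1 / x_i` at a point -/
def invX (i : Fin (n + 1)) {V : (CohB1.ProjSpace n R).Opens} (hV : V ≤ stdOpen n R i)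
    (x : ProjectiveSpectrum (CohB1.polyGrading n R)) (hx : x ∈ V) : Loc (CohB1.polyGrading n R) x :=
  Localization.mk 1 ⟨X i, X_notMem hV hx⟩

theorem X_mul_invX (i : Fin (n + 1)) {V : (CohB1.ProjSpace n R).Opens} (hV : V ≤ stdOpen n R i)
    (x : ProjectiveSpectrum (CohB1.polyGrading n R)) (hx : x ∈ V) :
    algebraMap (MvPolynomial (Fin (n + 1)) R) (Loc (CohB1.polyGrading n R) x) (X i) * invX i hV x hx = 1 := by
  have := x.isPrime
  rw [invX, Pn.mk_mul_algebraMap, mul_one]
  exact Localization.mk_self ⟨X i, X_notMem hV hx⟩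

theorem valAt_tFun (i l : Fin (n + 1)) {V : (CohB1.ProjSpace n R).Opens} (hV : V ≤ stdOpen n R i)
    (x : ProjectiveSpectrum (CohB1.polyGrading n R)) (hx : x ∈ V) :
    valAt (tFun i l hV) x hx =
      algebraMap (MvPolynomial (Fin (n + 1)) R) (Loc (CohB1.polyGrading n R) x) (X l) * invX i hV x hx := by
  refine (valAt_fracFun _ _ hV x hx).trans ?_
  rw [invX, Pn.mk_mul_algebraMap, mul_one]

theorem pdLoc_tFun (i l m : Fin (n + 1)) (hl : l ≠ i) {V : (CohB1.ProjSpace n R).Opens} (hV : V ≤ stdOpen n R i)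
    (x : ProjectiveSpectrum (CohB1.polyGrading n R)) (hx : x ∈ V) :
    pdLoc l x (valAt (tFun i m hV) x hx) = if l = m then invX i hV x hx else 0 := by
  have := x.isPrime
  have h0 : ∀ p : MvPolynomial (Fin (n + 1)) R,
      pdLoc l x (algebraMap _ _ p) = algebraMap _ _ (pderiv l p) := pdLoc_algebraMap l x
  have hXi : pderiv l (X i : MvPolynomial (Fin (n + 1)) R) = 0 := pderiv_X_of_ne (Ne.symm hl)
  have hu : pdLoc l x (invX i hV x hx) = 0 := by
    have h := congrArg (pdLoc l x) (X_mul_invX i hV x hx)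
    rw [pdLoc_mul, h0, hXi, map_zero, mul_zero, add_zero, pdLoc_one] at h
    calc pdLoc l x (invX i hV x hx)
        = (algebraMap (MvPolynomial (Fin (n + 1)) R) (Loc (CohB1.polyGrading n R) x) (X i) * invX i hV x hx) *
            pdLoc l x (invX i hV x hx) := by rw [X_mul_invX, one_mul]
      _ = invX i hV x hx *
            (algebraMap (MvPolynomial (Fin (n + 1)) R) (Loc (CohB1.polyGrading n R) x) (X i) *
              pdLoc l x (invX i hV x hx)) := by ring
      _ = 0 := by rw [h, mul_zero]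
  rw [valAt_tFun, pdLoc_mul, hu, mul_zero, zero_add, h0]
  by_cases h : l = m
  · subst h; simp
  · rw [if_neg h, pderiv_X_of_ne (Ne.symm h), map_zero, mul_zero]

variable (n R)

/-- projection of `O(-1)^(n+1)` -/
def prE (l : Fin (n + 1)) : EE n R ⟶ Twist.twistProjSpace n R (-1) :=
  open Classical in Sigma.desc fun m => if m = l then 𝟙 _ else 0

theorem sum_prE : ∑ l, prE n R l ≫ Sigma.ι (fun _ : Fin (n + 1) => Twist.twistProjSpace n R (-1)) l = 𝟙 (EE n R) := by
  classical
  refine Sigma.hom_ext _ _ fun m => ?_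
  simp [prE, Preadditive.comp_sum, ite_comp]

variable {n R}

theorem EE_decomp {U : (CohB1.ProjSpace n R).Opens} (z : Γ(EE n R, U)) :
    z = ∑ l, (Sigma.ι (fun _ : Fin (n + 1) => Twist.twistProjSpace n R (-1)) l).app U ((prE n R l).app U z) := by
  let ev : (EE n R ⟶ EE n R) →+ Γ(EE n R, U) :=
    AddMonoidHom.mk' (fun φ => φ.app U z) (fun φ ψ => rfl)
  exact (congrArg ev (sum_prE n R)).symm.trans (map_sum ev _ Finset.univ)

theorem prE_ι {U : (CohB1.ProjSpace n R).Opens} (l m : Fin (n + 1)) (s : Γ(Twist.twistProjSpace n R (-1), U)) :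
    (prE n R l).app U ((Sigma.ι (fun _ : Fin (n + 1) => Twist.twistProjSpace n R (-1)) m).app U s) =
      if m = l then s else 0 := by
  classical
  have h := congrArg (fun φ : Twist.twistProjSpace n R (-1) ⟶ Twist.twistProjSpace n R (-1) => φ.app U s)
    (Sigma.ι_desc (fun m' : Fin (n + 1) => if m' = l then 𝟙 (Twist.twistProjSpace n R (-1)) else 0) m)
  refine h.trans ?_
  split_ifs <;> rfl

theorem prE_dEE {U : (CohB1.ProjSpace n R).Opens} (l : Fin (n + 1)) (c : Γ(CohB1.ProjSpace n R, U)) :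
    (prE n R l).app U (dEE U c) = pdApp l U c := by
  rw [dEE_apply, map_sum, Finset.sum_eq_single l]
  · rw [prE_ι, if_pos rfl]
  · intro m _ hm
    rw [prE_ι, if_neg hm]
  · simp

/-- component of a section of the kernel -/
def cpt {V : (CohB1.ProjSpace n R).Opens} (l : Fin (n + 1)) (x : ProjectiveSpectrum (CohB1.polyGrading n R))
    (hx : x ∈ V) : Γ(KK n R, V) →+ Loc (CohB1.polyGrading n R) x :=
  (evN x hx).comp (((prE n R l).app V).hom.comp ((kernel.ι (eulerMap n R)).app V).hom)

theorem cpt_smul {V : (CohB1.ProjSpace n R).Opens} (l : Fin (n + 1))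
    (x : ProjectiveSpectrum (CohB1.polyGrading n R)) (hx : x ∈ V) (a : Γ(CohB1.ProjSpace n R, V)) (z : Γ(KK n R, V)) :
    cpt l x hx (a • z) = valAt a x hx * cpt l x hx z := by
  show evN x hx ((prE n R l).app V ((kernel.ι (eulerMap n R)).app V (a • z))) = _
  rw [Scheme.Modules.Hom.app_smul, Scheme.Modules.Hom.app_smul, evN_smul]
  rfl

theorem cpt_dKK {V : (CohB1.ProjSpace n R).Opens} (l : Fin (n + 1))
    (x : ProjectiveSpectrum (CohB1.polyGrading n R)) (hx : x ∈ V) (c : Γ(CohB1.ProjSpace n R, V)) :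
    cpt l x hx (dKK V c) = pdLoc l x (valAt c x hx) := by
  show evN x hx ((prE n R l).app V ((kernel.ι (eulerMap n R)).app V (dKK V c))) = _
  rw [ι_dKK, prE_dEE, evN_pdApp]

theorem sum_X_mul_cpt {V : (CohB1.ProjSpace n R).Opens} (x : ProjectiveSpectrum (CohB1.polyGrading n R))
    (hx : x ∈ V) (z : Γ(KK n R, V)) :
    ∑ l, algebraMap (MvPolynomial (Fin (n + 1)) R) (Loc (CohB1.polyGrading n R) x) (X l) * cpt l x hx z = 0 := by
  have h0 : (eulerMap n R).app V ((kernel.ι (eulerMap n R)).app V z) = 0 := by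
    have h := congrArg (fun φ : KK n R ⟶ Twist.twistProjSpace n R 0 => φ.app V z)
      (kernel.condition (eulerMap n R))
    exact h
  have h2 := congrArg (evN x hx) h0
  rw [map_zero, EE_decomp ((kernel.ι (eulerMap n R)).app V z), map_sum, map_sum] at h2
  refine Eq.trans ?_ h2
  refine Finset.sum_congr rfl fun l _ => ?_
  have e : ∀ s, (eulerMap n R).app V ((Sigma.ι (fun _ : Fin (n + 1) => Twist.twistProjSpace n R (-1)) l).app V s) =
      (mulVar n R l).app V s := fun s => by
    rw [← Sigma.ι_desc (mulVar n R) l]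
    rfl
  rw [e, evN_mulVar]
  rfl

theorem KK_ext {V : (CohB1.ProjSpace n R).Opens} (i : Fin (n + 1)) (hV : V ≤ stdOpen n R i) {z w : Γ(KK n R, V)}
    (h : ∀ j : Fin n, ∀ x (hx : x ∈ V), cpt (i.succAbove j) x hx z = cpt (i.succAbove j) x hx w) : z = w := by
  apply ι_app_injective (eulerMap n R) V
  rw [EE_decomp ((kernel.ι (eulerMap n R)).app V z), EE_decomp ((kernel.ι (eulerMap n R)).app V w)]
  refine Finset.sum_congr rfl fun l _ => congrArg _ (evN_ext fun x hx => ?_)
  show cpt l x hx z = cpt l x hx w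
  rcases eq_or_ne l i with rfl | hl
  · have hz := sum_X_mul_cpt x hx z
    have hw := sum_X_mul_cpt x hx w
    rw [Fin.sum_univ_succAbove _ l] at hz hw
    simp only [h] at hz
    have h1 := add_right_cancel (hz.trans hw.symm)
    calc cpt l x hx z = algebraMap (MvPolynomial (Fin (n + 1)) R) (Loc (CohB1.polyGrading n R) x) (X l) *
          cpt l x hx z * invX l hV x hx := by rw [mul_right_comm, X_mul_invX, one_mul]
      _ = cpt l x hx w := by rw [h1, mul_right_comm, X_mul_invX, one_mul]
  · obtain ⟨j, rfl⟩ := Fin.exists_succAbove_eq hl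
    exact h j x hx

theorem cpt_dKK_tFun {V : (CohB1.ProjSpace n R).Opens} (i : Fin (n + 1)) (hV : V ≤ stdOpen n R i)
    (a : Fin n → Γ(CohB1.ProjSpace n R, V)) (j : Fin n) (x : ProjectiveSpectrum (CohB1.polyGrading n R))
    (hx : x ∈ V) :
    cpt (i.succAbove j) x hx (∑ m, a m • dKK V (tFun i (i.succAbove m) hV)) = valAt (a j) x hx * invX i hV x hx := by
  rw [map_sum, Finset.sum_eq_single j]
  · rw [cpt_smul, cpt_dKK, pdLoc_tFun _ _ _ (Fin.succAbove_ne i j), if_pos rfl]
  · intro m _ hm
    rw [cpt_smul, cpt_dKK, pdLoc_tFun _ _ _ (Fin.succAbove_ne i j),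
      if_neg (fun e => hm (Fin.succAbove_right_injective e).symm), mul_zero]
  · simp

theorem isFrame_KK (i : Fin (n + 1)) :
    LFFrame.IsFrame (KK n R) (stdOpen n R i) fun j => dKK (stdOpen n R i) (tFun i (i.succAbove j) le_rfl) := by
  intro V hV
  have hcomb : ∀ a : Fin n → Γ(CohB1.ProjSpace n R, V),
      LFFrame.comb (KK n R) (fun j => dKK (stdOpen n R i) (tFun i (i.succAbove j) le_rfl)) hV a =
        ∑ m, a m • dKK V (tFun i (i.succAbove m) hV) := fun a =>
    Finset.sum_congr rfl fun m _ => congrArg (a m • ·)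
      ((Omega.Basic.der_map (dEuler n R) (homOfLE hV) (tFun i (i.succAbove m) le_rfl)).symm)
  constructor
  · intro a b hab
    rw [hcomb, hcomb] at hab
    funext j
    refine valAt_ext fun x hx => ?_
    have h := congrArg (cpt (i.succAbove j) x hx) hab
    rw [cpt_dKK_tFun, cpt_dKK_tFun] at h
    calc valAt (a j) x hx = valAt (a j) x hx * (algebraMap (MvPolynomial (Fin (n + 1)) R)
            (Loc (CohB1.polyGrading n R) x) (X i) * invX i hV x hx) := by rw [X_mul_invX, mul_one]
      _ = algebraMap (MvPolynomial (Fin (n + 1)) R) (Loc (CohB1.polyGrading n R) x) (X i) *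
            (valAt (a j) x hx * invX i hV x hx) := by ring
      _ = valAt (b j) x hx * (algebraMap (MvPolynomial (Fin (n + 1)) R)
            (Loc (CohB1.polyGrading n R) x) (X i) * invX i hV x hx) := by rw [h]; ring
      _ = valAt (b j) x hx := by rw [X_mul_invX, mul_one]
  · intro z
    choose a ha using fun j : Fin n => exists_O_of_sectN_zero
      (mulSec (show ((1 : ℕ) : ℤ) + -1 = 0 by norm_num) (numSec (X_mem_polyGrading n R i) (op V))
        (show sectN (𝒜 := CohB1.polyGrading n R) (-1) (op V) from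
          (prE n R (i.succAbove j)).app V ((kernel.ι (eulerMap n R)).app V z)))
    refine ⟨fun j => (show Γ(CohB1.ProjSpace n R, V) from a j), ?_⟩
    rw [hcomb]
    refine KK_ext i hV fun j x hx => ?_
    rw [cpt_dKK_tFun]
    have e : valAt (show Γ(CohB1.ProjSpace n R, V) from a j) x hx =
        algebraMap (MvPolynomial (Fin (n + 1)) R) (Loc (CohB1.polyGrading n R) x) (X i) *
          cpt (i.succAbove j) x hx z := by
      refine (ha j ⟨x, hx⟩).trans ?_
      refine (mulSec_coe _ _ _ ⟨x, hx⟩).trans ?_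
      exact congrArg (· * _) (numSec_coe _ _ ⟨x, hx⟩)
    rw [e, mul_right_comm, X_mul_invX, one_mul]

variable (n R)

instance quasiSeparated_toSpec : QuasiSeparated (CohB1.ProjSpace.toSpec n R) :=
  haveI : IsProper (CohB1.ProjSpace.toSpec n R) := ProjProper.Basic.isProper_toSpec n R
  inferInstance

/-- `Ω ⟶ ker` -/
def omegaToKK : Omega.sheaf (CohB1.ProjSpace.toSpec n R) ⟶ KK n R :=
  haveI : IsProper (CohB1.ProjSpace.toSpec n R) := ProjProper.Basic.isProper_toSpec n R
  haveI : QuasiSeparated (CohB1.ProjSpace.toSpec n R) := inferInstance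
  Omega.Basic.desc (Omega.DiagUniv.isUniversal_dOmega (CohB1.ProjSpace.toSpec n R)) (dEuler n R)

theorem omegaToKK_app (U : (CohB1.ProjSpace n R).Opens) (c : Γ(CohB1.ProjSpace n R, U)) :
    (omegaToKK n R).app U ((dOmega (CohB1.ProjSpace.toSpec n R)).app U c) = dKK U c :=
  haveI : IsProper (CohB1.ProjSpace.toSpec n R) := ProjProper.Basic.isProper_toSpec n R
  haveI : QuasiSeparated (CohB1.ProjSpace.toSpec n R) := inferInstance
  Omega.Basic.desc_app (Omega.DiagUniv.isUniversal_dOmega (CohB1.ProjSpace.toSpec n R)) (dEuler n R) U c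

variable {n R}

/-- polynomials as functions on `D₊(x_i)` -/
def polyFun (i : Fin (n + 1)) : MvPolynomial (Fin (n + 1)) R →+* Γ(CohB1.ProjSpace n R, stdOpen n R i) :=
  eval₂Hom (((CohB1.ProjSpace n R).presheaf.map (homOfLE (le_top : stdOpen n R i ≤ ⊤)).op).hom.comp
    (Coh.toGlobal (CohB1.ProjSpace.toSpec n R))) fun l => tFun i l le_rfl

theorem valAt_polyFun (i : Fin (n + 1)) {x : ProjectiveSpectrum (CohB1.polyGrading n R)} (hx : x ∈ stdOpen n R i)
    {m : ℕ} {p : MvPolynomial (Fin (n + 1)) R} (hp : p.IsHomogeneous m) :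
    valAt (polyFun i p) x hx =
      algebraMap (MvPolynomial (Fin (n + 1)) R) (Loc (CohB1.polyGrading n R) x) p * invX i le_rfl x hx ^ m := by
  let v : Γ(CohB1.ProjSpace n R, stdOpen n R i) →+* Loc (CohB1.polyGrading n R) x :=
    { toFun := fun c => valAt c x hx
      map_one' := valAt_one x hx
      map_mul' := fun a b => valAt_mul a b x hx
      map_zero' := HomogeneousLocalization.val_zero
      map_add' := fun a b => valAt_add a b x hx }
  have e : ∀ q : MvPolynomial (Fin (n + 1)) R, v (polyFun i q) =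
      eval₂ ((algebraMap (MvPolynomial (Fin (n + 1)) R) (Loc (CohB1.polyGrading n R) x)).comp C)
        (fun l => algebraMap (MvPolynomial (Fin (n + 1)) R) (Loc (CohB1.polyGrading n R) x) (X l) *
          invX i le_rfl x hx) q := by
    intro q
    induction q using MvPolynomial.induction_on with
    | C r =>
      rw [polyFun, eval₂Hom_C, eval₂_C]
      exact valAt_scalar r x hx
    | add a b ha hb => rw [map_add, map_add, ha, hb, eval₂_add]
    | mul_X a l ha =>
      rw [map_mul, map_mul, ha, eval₂_mul, eval₂_X, polyFun, eval₂Hom_X']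
      exact congrArg (_ * ·) (valAt_tFun i l le_rfl x hx)
  refine (e p).trans ?_
  rw [eval₂_eq]
  conv_rhs => rw [p.as_sum, map_sum, Finset.sum_mul]
  refine Finset.sum_congr rfl fun d hd => ?_
  have hdeg : ∑ l ∈ d.support, d l = m := by
    rw [← hp (mem_support_iff.mp hd)]
    simp [Finsupp.weight_apply, Finsupp.sum]
  rw [monomial_eq, map_mul, Finsupp.prod, map_prod, ← hdeg, ← Finset.prod_pow_eq_pow_sum, RingHom.comp_apply,
    mul_assoc, ← Finset.prod_mul_distrib]
  refine congrArg (_ * ·) (Finset.prod_congr rfl fun l _ => ?_)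
  rw [map_pow, mul_pow]

theorem exists_frac (i : Fin (n + 1)) (y : CohB1.ProjSpace n R) (hy : y ∈ stdOpen n R i)
    (g : (CohB1.ProjSpace n R).presheaf.stalk y) :
    ∃ a b : MvPolynomial (Fin (n + 1)) R,
      IsUnit ((CohB1.ProjSpace n R).presheaf.germ (stdOpen n R i) y hy (polyFun i b)) ∧
        g * (CohB1.ProjSpace n R).presheaf.germ (stdOpen n R i) y hy (polyFun i b) =
          (CohB1.ProjSpace n R).presheaf.germ (stdOpen n R i) y hy (polyFun i a) := by
  obtain ⟨U, hU, c, rfl⟩ := (CohB1.ProjSpace n R).presheaf.exists_germ_eq (x := y) g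
  obtain ⟨V, hV, hVU, m, a, s, ha, hs, nin, hval⟩ := exists_rep c y hU
  have ha' := (mem_homogeneousSubmodule m a).mp ha
  have hs' := (mem_homogeneousSubmodule m s).mp hs
  refine ⟨a, s, ?_, ?_⟩
  · have hpi : stdOpen n R i ≤ Proj.basicOpen (CohB1.polyGrading n R) (X i ^ m : MvPolynomial (Fin (n + 1)) R) :=
      fun z hz => (Proj.mem_basicOpen _ _ _).mpr fun hc =>
        (Proj.mem_basicOpen _ _ _).mp hz ((z : ProjectiveSpectrum _).isPrime.mem_of_pow_mem m hc)
    have hpm : (X i ^ m : MvPolynomial (Fin (n + 1)) R) ∈ CohB1.polyGrading n R m :=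
      (mem_homogeneousSubmodule _ _).mpr (by simpa using (isHomogeneous_X R i).pow m)
    have e : polyFun i s = fracFun hs hpm hpi := valAt_ext fun x hx => by
      rw [valAt_polyFun i hx hs', invX, Localization.mk_pow, one_pow, Pn.mk_mul_algebraMap, mul_one]
      exact (valAt_fracFun hs hpm hpi x hx).symm
    rw [e]
    refine ((CohB1.ProjSpace n R).mem_basicOpen _ y hy).mp ?_
    have h2 : y ∈ stdOpen n R i ⊓ Proj.basicOpen (CohB1.polyGrading n R) s :=
      ⟨hy, (Proj.mem_basicOpen _ _ _).mpr (nin ⟨y, hV⟩)⟩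
    exact (basicOpen_fracFun hs hpm hpi).ge h2
  · rw [← (CohB1.ProjSpace n R).presheaf.germ_res_apply (homOfLE (inf_le_left.trans hVU : V ⊓ stdOpen n R i ≤ U))
      y ⟨hV, hy⟩ c,
      ← (CohB1.ProjSpace n R).presheaf.germ_res_apply (homOfLE (inf_le_right : V ⊓ stdOpen n R i ≤ stdOpen n R i))
      y ⟨hV, hy⟩ (polyFun i s),
      ← (CohB1.ProjSpace n R).presheaf.germ_res_apply (homOfLE (inf_le_right : V ⊓ stdOpen n R i ≤ stdOpen n R i))
      y ⟨hV, hy⟩ (polyFun i a), ← map_mul]
    refine congrArg _ (valAt_ext fun x hx => ?_)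
    refine (valAt_mul _ _ x hx).trans ?_
    refine (congrArg₂ (· * ·) (valAt_res _ _ x hx) (valAt_res _ _ x hx)).trans (Eq.trans ?_ (valAt_res _ _ x hx).symm)
    rw [valAt_polyFun i hx.2 hs', valAt_polyFun i hx.2 ha', ← mul_assoc]
    refine congrArg (· * _) ?_
    refine (congrArg (· * _) (hval ⟨x, hx.1⟩)).trans ?_
    rw [mul_comm, Pn.mk_mul_algebraMap]
    rw [← Localization.mk_one_eq_algebraMap, Localization.mk_eq_mk_iff, Localization.r_iff_exists]
    exact ⟨1, by simp⟩

theorem bijective_stalk_omegaToKK (i : Fin (n + 1)) (y : CohB1.ProjSpace n R) (hy : y ∈ stdOpen n R i) :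
    Function.Bijective (stalkLin (omegaToKK n R) y) := by
  haveI : IsProper (CohB1.ProjSpace.toSpec n R) := ProjProper.Basic.isProper_toSpec n R
  haveI : QuasiSeparated (CohB1.ProjSpace.toSpec n R) := inferInstance
  let f := CohB1.ProjSpace.toSpec n R
  obtain ⟨δ, hmul, hzero, hgerm, huniv⟩ :=
    Omega.Stalks.exists_stalk_universal (Omega.DiagUniv.isUniversal_dOmega f) y
  let O := (CohB1.ProjSpace n R).presheaf.stalk y
  let G : (Fin n → O) →ₗ[O] (Omega.sheaf f).presheaf.stalk y := Fintype.linearCombination O fun j =>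
    δ ((CohB1.ProjSpace n R).presheaf.germ (stdOpen n R i) y hy (tFun i (i.succAbove j) le_rfl))
  have hcomp : ∀ a, stalkLin (omegaToKK n R) y (G a) =
      LFFrame.stalkComb (KK n R) (fun j => dKK (stdOpen n R i) (tFun i (i.succAbove j) le_rfl)) y hy a := by
    intro a
    simp only [G, LFFrame.stalkComb, Fintype.linearCombination_apply, map_sum, map_smul]
    refine Finset.sum_congr rfl fun j _ => congrArg (a j • ·) ?_
    rw [hgerm, stalkLin_germ, omegaToKK_app]
  have hbij := (isFrame_KK (R := R) i).stalkComb_bijective y hy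
  let M := LinearMap.range G
  have hdiag : tFun (R := R) i i (le_refl (stdOpen n R i)) = 1 := fracFun_self _ _
  have hδone : δ 1 = 0 := by
    have h := hmul 1 1
    rw [one_mul, one_smul] at h
    exact left_eq_add.mp h
  have hpoly : ∀ p : MvPolynomial (Fin (n + 1)) R,
      δ ((CohB1.ProjSpace n R).presheaf.germ (stdOpen n R i) y hy (polyFun i p)) ∈ M := by
    intro p
    induction p using MvPolynomial.induction_on with
    | C r =>
      rw [polyFun, eval₂Hom_C]
      have h : δ ((CohB1.ProjSpace n R).presheaf.germ (stdOpen n R i) y hy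
          (((CohB1.ProjSpace n R).presheaf.map (homOfLE (le_top : stdOpen n R i ≤ ⊤)).op)
            (Coh.toGlobal f r))) = 0 := by
        rw [TopCat.Presheaf.germ_res_apply]
        have hr : (CohB1.ProjSpace n R).presheaf.germ ⊤ y trivial (Coh.toGlobal f r) =
            f.stalkMap y ((Spec (CommRingCat.of R)).presheaf.germ ⊤ (f y) trivial
              ((Scheme.ΓSpecIso (CommRingCat.of R)).inv r)) :=
          (Scheme.Hom.germ_stalkMap_apply f ⊤ y trivial _).symm
        rw [hr]
        exact hzero _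
      exact h.symm ▸ zero_mem _
    | add a b ha hb => rw [map_add, map_add, map_add]; exact add_mem ha hb
    | mul_X a l ha =>
      rw [map_mul, map_mul, hmul]
      refine add_mem (Submodule.smul_mem _ _ ?_) (Submodule.smul_mem _ _ ha)
      rw [polyFun, eval₂Hom_X']
      rcases eq_or_ne l i with rfl | hl
      · rw [hdiag, map_one, hδone]
        exact zero_mem _
      · obtain ⟨j, rfl⟩ := Fin.exists_succAbove_eq hl
        exact ⟨Pi.single j 1, by
          simp [G, Fintype.linearCombination_apply_single]⟩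
  have hall : ∀ g : O, δ g ∈ M := by
    intro g
    obtain ⟨a, b, hb, hab⟩ := exists_frac i y hy g
    have h := congrArg δ hab
    rw [hmul] at h
    have h2 : (CohB1.ProjSpace n R).presheaf.germ (stdOpen n R i) y hy (polyFun i b) • δ g ∈ M := by
      rw [← eq_sub_iff_add_eq'] at h
      rw [h]
      exact sub_mem (hpoly a) (Submodule.smul_mem _ _ (hpoly b))
    exact (Submodule.smul_mem_iff_of_isUnit _ hb).mp h2
  have hsurj : Function.Surjective G := by
    rw [← LinearMap.range_eq_top]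
    obtain ⟨l, -, hl⟩ := huniv ((Omega.sheaf f).presheaf.stalk y ⧸ M) 0 (fun a b => by simp) (fun c => rfl)
    have e1 : M.mkQ = l := hl _ fun a => (Submodule.Quotient.mk_eq_zero M).mpr (hall a)
    have e2 : (0 : (Omega.sheaf f).presheaf.stalk y →ₗ[O] _) = l := hl _ fun a => rfl
    rw [← Submodule.ker_mkQ (LinearMap.range G)]
    exact LinearMap.ker_eq_top.mpr (e1.trans e2.symm)
  constructor
  · intro v w h
    obtain ⟨a, rfl⟩ := hsurj v
    obtain ⟨b, rfl⟩ := hsurj w
    rw [hcomp, hcomp] at h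
    rw [hbij.1 h]
  · intro v
    obtain ⟨a, rfl⟩ := hbij.2 v
    exact ⟨G a, hcomp a⟩

theorem isIso_omegaToKK : IsIso (omegaToKK n R) :=
  Omega.Stalks.isIso_of_stalk fun y => by
    obtain ⟨i, hi⟩ := Opens.mem_iSup.mp ((iSup_stdOpen n R).ge (trivial : y ∈ (⊤ : (CohB1.ProjSpace n R).Opens)))
    exact bijective_stalk_omegaToKK i y hi

variable (n R)

/-- The Euler sequence: `Ω ≅ ker (O(-1)^(n+1) ⟶ O)`. -/
def omegaIsoKK : Omega.sheaf (CohB1.ProjSpace.toSpec n R) ≅ KK n R :=
  haveI := isIso_omegaToKK (n := n) (R := R)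
  asIso (omegaToKK n R)

set_option maxHeartbeats 1000000 in
theorem epi_eulerMap : Epi (eulerMap n R) := by
  refine Omega.Stalks.epi_of_stalk fun y t => ?_
  obtain ⟨i, hi⟩ := Opens.mem_iSup.mp ((iSup_stdOpen n R).ge (trivial : y ∈ (⊤ : (CohB1.ProjSpace n R).Opens)))
  obtain ⟨U, hU, s, rfl⟩ := exists_germM_eq (Twist.twistProjSpace n R 0) y t
  let V := U ⊓ stdOpen n R i
  have hVi : V ≤ stdOpen n R i := inf_le_right
  let s' : sectN (𝒜 := CohB1.polyGrading n R) 0 (op V) :=
    (Twist.twistProjSpace n R 0).presheaf.map (homOfLE (inf_le_left : V ≤ U)).op s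
  let w : Γ(Twist.twistProjSpace n R (-1), V) :=
    mulSec (show (0 : ℤ) + -((1 : ℕ) : ℤ) = -1 by norm_num) s' (denSec (X_mem_polyGrading n R i) hVi)
  have e : (eulerMap n R).app V ((Sigma.ι (fun _ : Fin (n + 1) => Twist.twistProjSpace n R (-1)) i).app V w) =
      (Twist.twistProjSpace n R 0).presheaf.map (homOfLE (inf_le_left : V ≤ U)).op s := by
    refine evN_ext fun x hx => ?_
    have e0 : (eulerMap n R).app V ((Sigma.ι (fun _ : Fin (n + 1) => Twist.twistProjSpace n R (-1)) i).app V w) =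
        (mulVar n R i).app V w := by
      rw [← Sigma.ι_desc (mulVar n R) i]
      rfl
    rw [e0, evN_mulVar]
    show algebraMap (MvPolynomial (Fin (n + 1)) R) (Loc (CohB1.polyGrading n R) x) (X i) *
      ((s'.1 ⟨x, hx⟩).1 * invX i hVi x hx) = (s'.1 ⟨x, hx⟩).1
    rw [mul_left_comm, X_mul_invX, mul_one]
  refine ⟨germM (EE n R) V y ⟨hU, hi⟩ ((Sigma.ι (fun _ : Fin (n + 1) => Twist.twistProjSpace n R (-1)) i).app V w), ?_⟩
  rw [stalkLin_germ, e]
  exact (Twist.twistProjSpace n R 0).presheaf.germ_res_apply (homOfLE inf_le_left) y ⟨hU, hi⟩ s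

/-- The Euler short complex. -/
abbrev eulerCx : ShortComplex (CohB1.ProjSpace n R).Modules :=
  ShortComplex.mk (kernel.ι (eulerMap n R)) (eulerMap n R) (kernel.condition _)

theorem shortExact_eulerCx : (eulerCx n R).ShortExact :=
  { exact := ShortComplex.exact_of_f_is_kernel _ (kernelIsKernel (eulerMap n R))
    epi_g := epi_eulerMap n R }

end Groth.Agent.EulerSeq
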