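import Groth.Agent.EulerSeq.KerFrame
import Groth.Agent.FinCov71.Rank

/-!
# The cokernel of a nowhere vanishing section is free
-/

set_option autoImplicit false
set_option backward.isDefEq.respectTransparency false
set_option backward.isDefEq.respectTransparency.types false

universe u

open CategoryTheory Limits AlgebraicGeometry TopologicalSpace Opposite

noncomputable section

namespace Groth.Agent.EulerSeq

open OmegaSh Groth.Agent.PullStalk.Sky Groth.Agent.PullStalk.Exact

variable {X : Scheme.{u}} {L K : X.Modules}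

theorem isFrame_update {U : X.Opens} {N : ℕ} {t : Fin N → Γ(K, U)} (ht : LFFrame.IsFrame K U t) (k₀ : Fin N)
    (c : Fin N → Γ(X, U)) (hc : IsUnit (c k₀)) :
    LFFrame.IsFrame K U (Function.update t k₀ (∑ k, c k • t k)) := by
  classical
  intro V hV
  let ρ := (X.presheaf.map (homOfLE hV).op).hom
  obtain ⟨w, hw⟩ := (hc.map ρ).exists_left_inv
  let f : (Fin N → Γ(X, V)) → (Fin N → Γ(X, V)) := fun a k =>
    if k = k₀ then a k₀ * ρ (c k₀) else a k + a k₀ * ρ (c k)
  have e : LFFrame.comb K (Function.update t k₀ (∑ k, c k • t k)) hV = LFFrame.comb K t hV ∘ f := funext fun a => by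
    simp only [LFFrame.comb, Function.comp_apply]
    rw [← Finset.add_sum_erase _ _ (Finset.mem_univ k₀), Function.update_self, map_sum, Finset.smul_sum,
      ← Finset.add_sum_erase _ (fun k => f a k • _) (Finset.mem_univ k₀),
      ← Finset.add_sum_erase _ (fun k => a k₀ • _) (Finset.mem_univ k₀)]
    simp only [Scheme.Modules.map_smul, smul_smul, f, if_pos rfl]
    rw [add_assoc, ← Finset.sum_add_distrib]
    refine congrArg (_ + ·) (Finset.sum_congr rfl fun k hk => ?_)
    rw [Function.update_of_ne (Finset.ne_of_mem_erase hk), if_neg (Finset.ne_of_mem_erase hk), add_smul]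
    exact add_comm _ _
  rw [e]
  refine (ht V hV).comp (Function.bijective_iff_has_inverse.mpr
    ⟨fun b k => if k = k₀ then b k₀ * w else b k - b k₀ * w * ρ (c k), fun a => ?_, fun b => ?_⟩)
  · funext k
    have h : a k₀ * ρ (c k₀) * w = a k₀ := by rw [mul_assoc, mul_comm (ρ (c k₀)), hw, mul_one]
    by_cases hk : k = k₀
    · subst hk; simpa [f] using h
    · simp [f, hk, h]
  · funext k
    have h : b k₀ * w * ρ (c k₀) = b k₀ := by rw [mul_assoc, hw, mul_one]
    by_cases hk : k = k₀
    · subst hk; simpa [f] using h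
    · simp [f, hk]

theorem stalkLin_injective_of_frames (u : L ⟶ K) {U : X.Opens} {N : ℕ} (v : Γ(L, U))
    (hv : LFFrame.IsFrame L U ![v]) (g : Fin N → Γ(K, U)) (hg : LFFrame.IsFrame K U g) (p₀ : Fin N)
    (h₀ : g p₀ = u.app U v) (x : X) (hx : x ∈ U) : Function.Injective (stalkLin u x) := by
  classical
  intro a b h
  obtain ⟨a, rfl⟩ := (hv.stalkComb_bijective x hx).2 a
  obtain ⟨b, rfl⟩ := (hv.stalkComb_bijective x hx).2 b
  have e : ∀ a : Fin 1 → X.presheaf.stalk x, stalkLin u x (LFFrame.stalkComb L ![v] x hx a) =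
      LFFrame.stalkComb K g x hx (Pi.single p₀ (a 0)) := fun a => by
    simp [LFFrame.stalkComb, Fintype.linearCombination_apply, Fintype.linearCombination_apply_single, h₀,
      stalkLin_germ]
  rw [e, e] at h
  have h2 := congrFun ((hg.stalkComb_bijective x hx).1 h) p₀
  simp only [Pi.single_eq_same] at h2
  exact congrArg _ (funext fun i => by rw [Subsingleton.elim i 0]; exact h2)

theorem isFrame_cokernel (u : L ⟶ K) [Mono u] {U : X.Opens} {N : ℕ} (v : Γ(L, U))
    (hv : LFFrame.IsFrame L U ![v]) (g : Fin (N + 1) → Γ(K, U)) (hg : LFFrame.IsFrame K U g) (p₀ : Fin (N + 1))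
    (h₀ : g p₀ = u.app U v) :
    LFFrame.IsFrame (cokernel u) U fun p => (cokernel.π u).app U (g (p₀.succAbove p)) := by
  classical
  refine LFFrame.isFrame_of_stalkComb_bijective fun x hx => ?_
  have hS : (ShortComplex.mk u (cokernel.π u) (cokernel.condition u)).ShortExact :=
    { exact := ShortComplex.exact_of_g_is_cokernel _ (cokernelIsCokernel u) }
  obtain ⟨-, hex, hsurj⟩ := stalk_exact hS x
  have e : ∀ a : Fin (N + 1) → X.presheaf.stalk x, stalkLin (cokernel.π u) x (LFFrame.stalkComb K g x hx a) =
      LFFrame.stalkComb (cokernel u) (fun p => (cokernel.π u).app U (g (p₀.succAbove p))) x hx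
        (fun p => a (p₀.succAbove p)) := fun a => by
    simp only [LFFrame.stalkComb, Fintype.linearCombination_apply, map_sum, map_smul, stalkLin_germ]
    rw [Fin.sum_univ_succAbove _ p₀]
    have hz : germM (cokernel u) U x hx ((cokernel.π u).app U (g p₀)) = 0 := by
      rw [h₀, show (cokernel.π u).app U (u.app U v) = 0 from
        congrArg (fun φ : L ⟶ cokernel u => φ.app U v) (cokernel.condition u)]
      exact map_zero _
    rw [hz, smul_zero, zero_add]
  constructor
  · refine (injective_iff_map_eq_zero _).mpr fun a ha => ?_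
    let a' : Fin (N + 1) → X.presheaf.stalk x := p₀.insertNth 0 a
    have e1 := e a'
    simp only [a', Fin.insertNth_apply_succAbove] at e1
    obtain ⟨l, hl⟩ := (hex _).mp (e1.trans ha)
    obtain ⟨b, rfl⟩ := (hv.stalkComb_bijective x hx).2 l
    have hl' : LFFrame.stalkComb K g x hx (Pi.single p₀ (b 0)) = LFFrame.stalkComb K g x hx a' :=
      Eq.trans (by simp [LFFrame.stalkComb, Fintype.linearCombination_apply,
        Fintype.linearCombination_apply_single, h₀, stalkLin_germ]) hl
    funext p
    have h3 := congrFun ((hg.stalkComb_bijective x hx).1 hl') (p₀.succAbove p)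
    simpa [a', Fin.succAbove_ne] using h3.symm
  · intro t
    obtain ⟨k, rfl⟩ := hsurj t
    obtain ⟨a, rfl⟩ := (hg.stalkComb_bijective x hx).2 k
    exact ⟨_, (e a).symm⟩

end Groth.Agent.EulerSeq
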