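import Groth.Agent.EulerSeq.Pderiv
import Groth.Agent.SerrePn.Lau
import Groth.Agent.Omega.Basic
import Groth.Agent.QCoh.Basic
import Groth.Prelude.Def_Omega4

/-!
# The Euler derivation `O ⟶ ker (O(-1)^(n+1) ⟶ O)` on `P^n_R`
-/

set_option autoImplicit false
set_option backward.isDefEq.respectTransparency false
set_option backward.isDefEq.respectTransparency.types false

universe u

open CategoryTheory Limits AlgebraicGeometry TopologicalSpace Opposite MvPolynomial

noncomputable section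

namespace Groth.Agent.EulerSeq

open Twist Groth.Agent.ProjTwist OmegaSh

variable (n : ℕ) (R : Type u) [CommRing R]

/-- `O(-1)^(n+1)` -/
abbrev EE : (CohB1.ProjSpace n R).Modules :=
  ∐ fun _ : Fin (n + 1) => Twist.twistProjSpace n R (-1)

/-- multiplication by `x_l` on `O(-1)` -/
abbrev mulVar (l : Fin (n + 1)) : Twist.twistProjSpace n R (-1) ⟶ Twist.twistProjSpace n R 0 :=
  SerrePn.mulHom (-1) 0 (X_mem_polyGrading n R l) (by norm_num)

/-- `(f_l) ↦ Σ x_l f_l` -/
abbrev eulerMap : EE n R ⟶ Twist.twistProjSpace n R 0 := Sigma.desc (mulVar n R)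

/-- the kernel of the Euler map -/
abbrev KK : (CohB1.ProjSpace n R).Modules := kernel (eulerMap n R)

variable {n R}

/-- the value of a section of `O(d)` at a point -/
def evN {d : ℤ} {U : (CohB1.ProjSpace n R).Opens} (x : ProjectiveSpectrum (CohB1.polyGrading n R)) (hx : x ∈ U) :
    Γ(Twist.twistProjSpace n R d, U) →+ Loc (CohB1.polyGrading n R) x :=
  AddMonoidHom.mk' (fun s => ((show sectN (𝒜 := CohB1.polyGrading n R) d (op U) from s).1 ⟨x, hx⟩).1)
    (fun s t => ProjTwist.Pn.add_coe (show sectN (𝒜 := CohB1.polyGrading n R) d (op U) from s)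
      (show sectN (𝒜 := CohB1.polyGrading n R) d (op U) from t) ⟨x, hx⟩)

theorem evN_ext {d : ℤ} {U : (CohB1.ProjSpace n R).Opens} {s t : Γ(Twist.twistProjSpace n R d, U)}
    (h : ∀ x (hx : x ∈ U), evN x hx s = evN x hx t) : s = t :=
  sectN_ext (s := (show sectN (𝒜 := CohB1.polyGrading n R) d (op U) from s))
    (t := (show sectN (𝒜 := CohB1.polyGrading n R) d (op U) from t)) fun x => h x.1 x.2

theorem evN_smul {d : ℤ} {U : (CohB1.ProjSpace n R).Opens} (c : Γ(CohB1.ProjSpace n R, U))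
    (s : Γ(Twist.twistProjSpace n R d, U)) (x : ProjectiveSpectrum (CohB1.polyGrading n R)) (hx : x ∈ U) :
    evN x hx (c • s) = valAt c x hx * evN x hx s :=
  smul_coe (show O (𝒜 := CohB1.polyGrading n R) (op U) from c)
    (show sectN (𝒜 := CohB1.polyGrading n R) d (op U) from s) ⟨x, hx⟩

theorem evN_res {d : ℤ} {U V : (CohB1.ProjSpace n R).Opens} (h : V ≤ U) (s : Γ(Twist.twistProjSpace n R d, U))
    (x : ProjectiveSpectrum (CohB1.polyGrading n R)) (hx : x ∈ V) :
    evN x hx ((Twist.twistProjSpace n R d).presheaf.map (homOfLE h).op s) = evN x (h hx) s := rfl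

theorem evN_mulVar {U : (CohB1.ProjSpace n R).Opens} (l : Fin (n + 1))
    (s : Γ(Twist.twistProjSpace n R (-1), U)) (x : ProjectiveSpectrum (CohB1.polyGrading n R)) (hx : x ∈ U) :
    evN x hx ((mulVar n R l).app U s) =
      algebraMap (MvPolynomial (Fin (n + 1)) R) (Loc (CohB1.polyGrading n R) x) (X l) * evN x hx s := by
  refine (mulSec_coe (show ((1 : ℕ) : ℤ) + -1 = 0 by norm_num) (numSec (X_mem_polyGrading n R l) (op U))
    (show sectN (𝒜 := CohB1.polyGrading n R) (-1) (op U) from s) ⟨x, hx⟩).trans ?_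
  exact congrArg (· * _) (numSec_coe _ _ ⟨x, hx⟩)

/-- `c ↦ ∂c/∂x_l` -/
def pdApp (l : Fin (n + 1)) (U : (CohB1.ProjSpace n R).Opens) :
    Γ(CohB1.ProjSpace n R, U) →+ Γ(Twist.twistProjSpace n R (-1), U) :=
  AddMonoidHom.mk' (fun c => (pdSec l U c : sectN (𝒜 := CohB1.polyGrading n R) (-1) (op U)))
    fun a b => evN_ext fun x hx => by
      refine (congrArg (pdLoc l x) (valAt_add a b x hx)).trans ?_
      rw [map_add, map_add]
      rfl

theorem evN_pdApp (l : Fin (n + 1)) (U : (CohB1.ProjSpace n R).Opens) (c : Γ(CohB1.ProjSpace n R, U))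
    (x : ProjectiveSpectrum (CohB1.polyGrading n R)) (hx : x ∈ U) :
    evN x hx (pdApp l U c) = pdLoc l x (valAt c x hx) := rfl

theorem pdApp_mul (l : Fin (n + 1)) (U : (CohB1.ProjSpace n R).Opens) (a b : Γ(CohB1.ProjSpace n R, U)) :
    pdApp l U (a * b) = a • pdApp l U b + b • pdApp l U a := by
  refine evN_ext fun x hx => ?_
  rw [map_add, evN_smul, evN_smul, evN_pdApp, evN_pdApp, evN_pdApp, valAt_mul, pdLoc_mul]

theorem pdApp_res (l : Fin (n + 1)) {U V : (CohB1.ProjSpace n R).Opens} (h : V ≤ U)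
    (c : Γ(CohB1.ProjSpace n R, U)) :
    pdApp l V ((CohB1.ProjSpace n R).presheaf.map (homOfLE h).op c) =
      (Twist.twistProjSpace n R (-1)).presheaf.map (homOfLE h).op (pdApp l U c) := rfl

/-- The derivation, on sections of `O(-1)^(n+1)`. -/
def dEE (U : (CohB1.ProjSpace n R).Opens) : Γ(CohB1.ProjSpace n R, U) →+ Γ(EE n R, U) :=
  ∑ l : Fin (n + 1), ((Sigma.ι (fun _ : Fin (n + 1) => Twist.twistProjSpace n R (-1)) l).app U).hom.comp
    (pdApp l U)

theorem dEE_apply (U : (CohB1.ProjSpace n R).Opens) (c : Γ(CohB1.ProjSpace n R, U)) :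
    dEE U c = ∑ l : Fin (n + 1),
      (Sigma.ι (fun _ : Fin (n + 1) => Twist.twistProjSpace n R (-1)) l).app U (pdApp l U c) := by
  simp [dEE]

theorem eulerMap_dEE (U : (CohB1.ProjSpace n R).Opens) (c : Γ(CohB1.ProjSpace n R, U)) :
    (eulerMap n R).app U (dEE U c) = 0 := by
  rw [dEE_apply, map_sum]
  refine evN_ext fun x hx => ?_
  rw [map_sum, map_zero]
  refine (Finset.sum_congr rfl fun l _ => ?_).trans (sum_X_mul_pdLoc c x hx)
  have e : (eulerMap n R).app U ((Sigma.ι (fun _ : Fin (n + 1) => Twist.twistProjSpace n R (-1)) l).app U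
      (pdApp l U c)) = (mulVar n R l).app U (pdApp l U c) := by
    rw [← Sigma.ι_desc (mulVar n R) l]
    rfl
  rw [e, evN_mulVar, evN_pdApp]

/-- The Euler derivation on sections. -/
def dKK (U : (CohB1.ProjSpace n R).Opens) : Γ(CohB1.ProjSpace n R, U) →+ Γ(KK n R, U) :=
  AddMonoidHom.mk' (fun c => kerLift (eulerMap n R) U (dEE U c) (eulerMap_dEE U c)) fun a b => by
    apply ι_app_injective (eulerMap n R) U
    refine (ι_kerLift (eulerMap n R) U _ _).trans ((map_add (dEE U) a b).trans ?_)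
    refine Eq.trans ?_ (map_add ((kernel.ι (eulerMap n R)).app U).hom _ _).symm
    exact (congrArg₂ (· + ·) (ι_kerLift (eulerMap n R) U _ _) (ι_kerLift (eulerMap n R) U _ _)).symm

theorem ι_dKK (U : (CohB1.ProjSpace n R).Opens) (c : Γ(CohB1.ProjSpace n R, U)) :
    (kernel.ι (eulerMap n R)).app U (dKK U c) = dEE U c :=
  ι_kerLift (eulerMap n R) U _ _

theorem valAt_scalar {U : (CohB1.ProjSpace n R).Opens} (r : R)
    (x : ProjectiveSpectrum (CohB1.polyGrading n R)) (hx : x ∈ U) :
    valAt (show Γ(CohB1.ProjSpace n R, U) from Pn.scalarO r (op U)) x hx =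
      algebraMap (MvPolynomial (Fin (n + 1)) R) (Loc (CohB1.polyGrading n R) x) (C r) :=
  Pn.val_scalarO r (op U) ⟨x, hx⟩

/-- `∂` kills the functions coming from `Spec R`. -/
theorem pdLoc_app (l : Fin (n + 1)) (V : (Spec (CommRingCat.of R)).Opens)
    (c : Γ(Spec (CommRingCat.of R), V)) (x : ProjectiveSpectrum (CohB1.polyGrading n R))
    (hx : x ∈ CohB1.ProjSpace.toSpec n R ⁻¹ᵁ V) :
    pdLoc l x (valAt ((CohB1.ProjSpace.toSpec n R).app V c) x hx) = 0 := by
  obtain ⟨_, ⟨_, ⟨g, rfl⟩, rfl⟩, hxg, hgV⟩ :=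
    (isBasis_basicOpen (Spec (CommRingCat.of R))).exists_subset_of_mem_open
      (show (CohB1.ProjSpace.toSpec n R) x ∈ V from hx) V.2
  replace hgV : (Spec (CommRingCat.of R)).basicOpen g ≤ V := hgV
  let W := (Spec (CommRingCat.of R)).basicOpen g
  have hxW : x ∈ CohB1.ProjSpace.toSpec n R ⁻¹ᵁ W := hxg
  let ρ : Γ(Spec (CommRingCat.of R), W) →+* Loc (CohB1.polyGrading n R) x :=
    { toFun := fun b => valAt ((CohB1.ProjSpace.toSpec n R).app W b) x hxW
      map_one' := by rw [map_one]; exact valAt_one x hxW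
      map_mul' := fun a b => by rw [map_mul]; exact valAt_mul _ _ x hxW
      map_zero' := by
        rw [map_zero]
        exact HomogeneousLocalization.val_zero
      map_add' := fun a b => by rw [map_add]; exact valAt_add _ _ x hxW }
  letI : Module Γ(Spec (CommRingCat.of R), W) (Loc (CohB1.polyGrading n R) x) := Module.compHom _ ρ
  haveI : IsLocalization.Away g Γ(Spec (CommRingCat.of R), W) :=
    (isAffineOpen_top (Spec (CommRingCat.of R))).isLocalization_basicOpen g
  let e : Γ(Spec (CommRingCat.of R), W) →+ Loc (CohB1.polyGrading n R) x :=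
    (pdLoc l x).comp ρ.toAddMonoidHom
  have he : e = 0 := by
    refine Omega.LocDer.ext_of_localization (Submonoid.powers g) (fun a b => ?_) (fun a b => by simp) fun b => ?_
    · show pdLoc l x (ρ (a * b)) = ρ a • pdLoc l x (ρ b) + ρ b • pdLoc l x (ρ a)
      rw [map_mul, pdLoc_mul]
      rfl
    · show pdLoc l x (ρ ((Spec (CommRingCat.of R)).presheaf.map (homOfLE le_top).op b)) = 0
      obtain ⟨r, rfl⟩ : ∃ r : R, (Scheme.ΓSpecIso (CommRingCat.of R)).inv r = b :=
        ⟨(Scheme.ΓSpecIso (CommRingCat.of R)).hom b, Iso.hom_inv_id_apply _ _⟩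
      have hn : (CohB1.ProjSpace.toSpec n R).app W
          ((Spec (CommRingCat.of R)).presheaf.map (homOfLE le_top).op
            ((Scheme.ΓSpecIso (CommRingCat.of R)).inv r)) =
          (show Γ(CohB1.ProjSpace n R, CohB1.ProjSpace.toSpec n R ⁻¹ᵁ W) from
            Pn.scalarO r (op (CohB1.ProjSpace.toSpec n R ⁻¹ᵁ W))) :=
        NatTrans.naturality_apply (CohB1.ProjSpace.toSpec n R).c (homOfLE (le_top : W ≤ ⊤)).op _
      refine (congrArg (pdLoc l x) ((congrArg (fun t => valAt t x hxW) hn).trans (valAt_scalar r x hxW))).trans ?_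
      rw [pdLoc_algebraMap, pderiv_C, map_zero]
  have h2 : pdLoc l x (ρ ((Spec (CommRingCat.of R)).presheaf.map (homOfLE hgV).op c)) = 0 :=
    DFunLike.congr_fun he ((Spec (CommRingCat.of R)).presheaf.map (homOfLE hgV).op c)
  refine Eq.trans (congrArg (pdLoc l x) ?_) h2
  refine Eq.trans ?_ (congrArg (fun t => valAt t x hxW)
    (NatTrans.naturality_apply (CohB1.ProjSpace.toSpec n R).c (homOfLE hgV).op c)).symm
  rfl

variable (n R)

/-- The Euler derivation. -/
def dEuler : Der (CohB1.ProjSpace.toSpec n R) (KK n R) where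
  d {U} := dKK U.unop
  d_mul {U} a b := by
    apply ι_app_injective (eulerMap n R) U.unop
    refine Eq.trans (ι_dKK U.unop (a * b)) ?_
    refine Eq.trans ?_ (map_add ((kernel.ι (eulerMap n R)).app U.unop).hom _ _).symm
    refine Eq.trans ?_ (congrArg₂ (· + ·) (Scheme.Modules.Hom.app_smul (kernel.ι (eulerMap n R)) a _).symm
      (Scheme.Modules.Hom.app_smul (kernel.ι (eulerMap n R)) b _).symm)
    refine Eq.trans ?_ (congrArg₂ (fun p q : Γ(EE n R, U.unop) =>
      (show Γ(CohB1.ProjSpace n R, U.unop) from a) • p + (show Γ(CohB1.ProjSpace n R, U.unop) from b) • q)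
        (ι_dKK U.unop b).symm (ι_dKK U.unop a).symm)
    rw [dEE_apply, dEE_apply, dEE_apply, Finset.smul_sum, Finset.smul_sum, ← Finset.sum_add_distrib]
    refine Finset.sum_congr rfl fun l _ => ?_
    rw [pdApp_mul, map_add, Scheme.Modules.Hom.app_smul, Scheme.Modules.Hom.app_smul]
  d_map {U V} i c := by
    apply ι_app_injective (eulerMap n R) V.unop
    refine Eq.trans (ι_dKK V.unop ((CohB1.ProjSpace n R).presheaf.map i c)) ?_
    refine Eq.trans ?_ (QCoh.app_res (kernel.ι (eulerMap n R)) i.unop.le (dKK U.unop c)).symm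
    rw [ι_dKK, dEE_apply, dEE_apply, map_sum]
    refine Finset.sum_congr rfl fun l _ => ?_
    refine Eq.trans ?_ (QCoh.app_res
      (Sigma.ι (fun _ : Fin (n + 1) => Twist.twistProjSpace n R (-1)) l) i.unop.le (pdApp l U.unop c))
    exact congrArg _ (pdApp_res l i.unop.le c)
  d_app {V} c := by
    apply ι_app_injective (eulerMap n R) _
    refine Eq.trans (ι_dKK _ ((CohB1.ProjSpace.toSpec n R).app V.unop c)) ?_
    refine Eq.trans ?_ (map_zero ((kernel.ι (eulerMap n R)).app _).hom).symm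
    rw [dEE_apply]
    refine Finset.sum_eq_zero fun l _ => ?_
    rw [show pdApp l _ ((CohB1.ProjSpace.toSpec n R).app V.unop c) = 0 from
      evN_ext fun x hx => (evN_pdApp _ _ _ _ _).trans ((pdLoc_app l V.unop c x hx).trans (map_zero _).symm)]
    exact map_zero _

theorem dEuler_app (U : (CohB1.ProjSpace n R).Opens) (c : Γ(CohB1.ProjSpace n R, U)) :
    (dEuler n R).app U c = dKK U c := rfl

end Groth.Agent.EulerSeq
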