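import Groth.Agent.EulerSeq.Iso
import Groth.Agent.SerrePn.ExtTwist
import Groth.Agent.ProjTwist.Pn.Coh
import Groth.Prelude.Def_KLin
import Groth.Agent.DualAbs.Depth

/-!
# `End O(d) = R`, and `Ω_{P^n}` is simple
-/

set_option autoImplicit false
set_option backward.isDefEq.respectTransparency false
set_option backward.isDefEq.respectTransparency.types false

universe u

open CategoryTheory Limits AlgebraicGeometry TopologicalSpace Opposite MvPolynomial

noncomputable section

namespace Groth.Agent.EulerSeq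

open Twist Groth.Agent.ProjTwist OmegaSh

variable {n : ℕ} {R : Type u} [CommRing R]

theorem twist_hom_ext {a b : ℤ} {φ ψ : Twist.twistProjSpace n R a ⟶ Twist.twistProjSpace n R b}
    (h : ∀ (U : (CohB1.ProjSpace n R).Opens) (s : Γ(Twist.twistProjSpace n R a, U))
      (x : ProjectiveSpectrum (CohB1.polyGrading n R)) (hx : x ∈ U),
        evN x hx (φ.app U s) = evN x hx (ψ.app U s)) : φ = ψ :=
  Scheme.Modules.hom_ext _ _ fun U => ConcreteCategory.hom_ext _ _ fun s => evN_ext fun x hx => h U s x hx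

theorem evN_mulHom {a b : ℤ} {e : ℕ} {p : MvPolynomial (Fin (n + 1)) R} (hp : p ∈ CohB1.polyGrading n R e)
    (h : (e : ℤ) + a = b) {U : (CohB1.ProjSpace n R).Opens} (s : Γ(Twist.twistProjSpace n R a, U))
    (x : ProjectiveSpectrum (CohB1.polyGrading n R)) (hx : x ∈ U) :
    evN x hx ((SerrePn.mulHom a b hp h).app U s) =
      algebraMap (MvPolynomial (Fin (n + 1)) R) (Loc (CohB1.polyGrading n R) x) p * evN x hx s := by
  refine (mulSec_coe h (numSec hp (op U))
    (show sectN (𝒜 := CohB1.polyGrading n R) a (op U) from s) ⟨x, hx⟩).trans ?_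
  exact congrArg (· * _) (numSec_coe _ _ ⟨x, hx⟩)

theorem C_mem (r : R) : (C r : MvPolynomial (Fin (n + 1)) R) ∈ CohB1.polyGrading n R 0 :=
  (mem_homogeneousSubmodule _ _).mpr (isHomogeneous_C _ r)

section Over

local instance : (CohB1.ProjSpace n R).Over (Spec (CommRingCat.of R)) := ⟨CohB1.ProjSpace.toSpec n R⟩

theorem evN_smulMod {d : ℤ} (r : R) {U : (CohB1.ProjSpace n R).Opens} (s : Γ(Twist.twistProjSpace n R d, U))
    (x : ProjectiveSpectrum (CohB1.polyGrading n R)) (hx : x ∈ U) :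
    evN x hx ((Formal.smulMod R (Twist.twistProjSpace n R d) r).app U s) =
      algebraMap (MvPolynomial (Fin (n + 1)) R) (Loc (CohB1.polyGrading n R) x) (C r) * evN x hx s := by
  refine (congrArg (evN x hx) (KLin.smulModΓ_app_apply _ _ U s)).trans ((evN_smul _ s x hx).trans ?_)
  exact congrArg (· * _) (valAt_scalar r x hx)

theorem mulHom_C {d : ℤ} (r : R) :
    SerrePn.mulHom d d (C_mem r) (by simp) = r • 𝟙 (Twist.twistProjSpace n R d) := by
  rw [KLin.smul_id]
  exact twist_hom_ext fun U s x hx => (evN_mulHom _ _ s x hx).trans (evN_smulMod r s x hx).symm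

/-- `End O(d) = R`. -/
theorem exists_smul_id {d : ℤ} (φ : Twist.twistProjSpace n R d ⟶ Twist.twistProjSpace n R d) :
    ∃ r : R, φ = r • 𝟙 _ := by
  obtain ⟨p, hp, rfl⟩ := SerrePn.exists_mulHom_eq φ (show ((0 : ℕ) : ℤ) + d = d by simp)
  obtain ⟨r, rfl⟩ : ∃ r, p = C r :=
    ⟨_, (totalDegree_eq_zero_iff_eq_C).mp (Nat.le_zero.mp ((mem_homogeneousSubmodule 0 p).mp hp).totalDegree_le)⟩
  exact ⟨r, mulHom_C r⟩

theorem sum_smul_mulVar (c : Fin (n + 1) → R)
    (hp : (∑ l, C (c l) * X l : MvPolynomial (Fin (n + 1)) R) ∈ CohB1.polyGrading n R 1) :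
    SerrePn.mulHom (-1) 0 hp (by norm_num) = ∑ l, c l • mulVar n R l := by
  refine twist_hom_ext fun U s x hx => ?_
  let ev : (Twist.twistProjSpace n R (-1) ⟶ Twist.twistProjSpace n R 0) →+ Loc (CohB1.polyGrading n R) x :=
    AddMonoidHom.mk' (fun φ => evN x hx (φ.app U s)) fun φ ψ => map_add (evN x hx) (φ.app U s) (ψ.app U s)
  refine (evN_mulHom _ _ s x hx).trans (Eq.trans ?_ (map_sum ev _ Finset.univ).symm)
  rw [map_sum, Finset.sum_mul]
  refine Finset.sum_congr rfl fun l _ => ?_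
  refine Eq.trans ?_ (congrArg (fun φ : Twist.twistProjSpace n R (-1) ⟶ Twist.twistProjSpace n R 0 => ev φ)
    (show c l • mulVar n R l = (c l • 𝟙 _) ≫ mulVar n R l by rw [Linear.smul_comp, Category.id_comp]).symm)
  show _ = evN x hx ((mulVar n R l).app U ((c l • 𝟙 (Twist.twistProjSpace n R (-1))).app U s))
  rw [evN_mulVar, KLin.smul_id, evN_smulMod, map_mul]
  ring

/-- The linear forms `x_l` are independent. -/
theorem coeff_eq_zero {c : Fin (n + 1) → R} (h : ∑ l, c l • mulVar n R l = 0) : c = 0 := by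
  have hp : (∑ l, C (c l) * X l : MvPolynomial (Fin (n + 1)) R) ∈ CohB1.polyGrading n R 1 :=
    sum_mem fun l _ => (mem_homogeneousSubmodule _ _).mpr (isHomogeneous_C_mul_X _ _)
  have h0 : (0 : MvPolynomial (Fin (n + 1)) R) ∈ CohB1.polyGrading n R 1 := zero_mem _
  have e0 : SerrePn.mulHom (-1) 0 h0 (by norm_num) = 0 := twist_hom_ext fun U s x hx => by
    rw [evN_mulHom, map_zero, zero_mul]
    exact (map_zero (evN x hx)).symm
  have e := congrArg SerrePn.mult ((sum_smul_mulVar c hp).trans (h.trans e0.symm))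
  rw [SerrePn.mult_mulHom, SerrePn.mult_mulHom] at e
  funext m
  have := congrArg (coeff (Finsupp.single m 1)) (Pn.toLau_injective e)
  simpa [coeff_sum, coeff_X, coeff_X', Finset.sum_ite_eq', Finsupp.single_left_inj] using this

theorem ι_prE (l m : Fin (n + 1)) :
    Sigma.ι (fun _ : Fin (n + 1) => Twist.twistProjSpace n R (-1)) m ≫ prE n R l =
      if m = l then 𝟙 _ else 0 := by
  classical
  exact (Sigma.ι_desc _ m).trans (by congr)

/-- An endomorphism of `O(-1)^(n+1)` compatible with the Euler map is a scalar. -/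
theorem eq_smul_id {ψ : EE n R ⟶ EE n R} {c : R} (h : ψ ≫ eulerMap n R = c • eulerMap n R) : ψ = c • 𝟙 _ := by
  classical
  choose M hM using fun l m => exists_smul_id
    (Sigma.ι (fun _ : Fin (n + 1) => Twist.twistProjSpace n R (-1)) l ≫ ψ ≫ prE n R m)
  have key : ∀ l m, M l m = if m = l then c else 0 := by
    intro l
    have e : ∑ m, (M l m - if m = l then c else 0) • mulVar n R m = 0 := by
      have h1 := congrArg (Sigma.ι (fun _ : Fin (n + 1) => Twist.twistProjSpace n R (-1)) l ≫ ψ ≫ ·)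
        (congrArg (· ≫ eulerMap n R) (sum_prE n R))
      simp only [Preadditive.sum_comp, Preadditive.comp_sum, Category.assoc, Category.id_comp,
        Sigma.ι_desc] at h1
      rw [h, Linear.comp_smul, Sigma.ι_desc] at h1
      simp only [← Category.assoc, hM, Linear.smul_comp, Category.id_comp] at h1
      simp only [sub_smul, Finset.sum_sub_distrib, h1, ite_smul, zero_smul, Finset.sum_ite_eq',
        Finset.mem_univ, if_true, sub_self]
    intro m
    exact sub_eq_zero.mp (congrFun (coeff_eq_zero e) m)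
  refine Sigma.hom_ext _ _ fun l => ?_
  conv_lhs => rw [← Category.comp_id ψ, ← sum_prE n R]
  simp only [Preadditive.comp_sum]
  simp only [← Category.assoc]
  simp only [Category.assoc (Sigma.ι (fun _ : Fin (n + 1) => Twist.twistProjSpace n R (-1)) l), hM, key, Linear.smul_comp, Category.id_comp, ite_smul, zero_smul, Linear.comp_smul,
    Category.comp_id, Finset.sum_ite_eq', Finset.mem_univ, if_true]
  rw [Finset.sum_eq_single l (fun m _ hm => by rw [if_neg hm, zero_comp]) (by simp), if_pos rfl,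
    Linear.smul_comp, Category.id_comp]

theorem exists_extend_KK (ψ : KK n R ⟶ EE n R) : ∃ χ : EE n R ⟶ EE n R, kernel.ι (eulerMap n R) ≫ χ = ψ := by
  have : HasExt.{u} (CohB1.ProjSpace n R).Modules := Groth.Agent.ModShf.schemeModulesHasExt _
  have h : Subsingleton (Abelian.Ext (eulerCx n R).X₃ (Twist.twistProjSpace n R (-1)) 1) :=
    SerrePn.subsingleton_ext_twist 0 (-1) 1 (Pn.subsingleton_twist _ 0 (by omega))
  choose χ hχ using fun l : Fin (n + 1) => Abelian.Ext.contravariant_sequence_exact₁ (shortExact_eulerCx n R) _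
    (Abelian.Ext.mk₀ (ψ ≫ prE n R l)) (show 1 + 0 = 1 from rfl) (Subsingleton.elim _ _)
  choose χ' hχ' using fun l => (Abelian.Ext.mk₀_bijective _ _).2 (χ l)
  simp only [← hχ', Abelian.Ext.mk₀_comp_mk₀] at hχ
  refine ⟨∑ l, χ' l ≫ Sigma.ι (fun _ : Fin (n + 1) => Twist.twistProjSpace n R (-1)) l, ?_⟩
  simp only [Preadditive.comp_sum, ← Category.assoc]
  conv_rhs => rw [← Category.comp_id ψ, ← sum_prE n R, Preadditive.comp_sum]
  refine Finset.sum_congr rfl fun l _ => ?_
  rw [show kernel.ι (eulerMap n R) ≫ χ' l = ψ ≫ prE n R l from (Abelian.Ext.mk₀_bijective _ _).1 (hχ l),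
    Category.assoc]

theorem exists_endKK_eq_smul (φ : KK n R ⟶ KK n R) : ∃ c : R, φ = c • 𝟙 _ := by
  obtain ⟨χ, hχ⟩ := exists_extend_KK (φ ≫ kernel.ι (eulerMap n R))
  have h0 : kernel.ι (eulerMap n R) ≫ χ ≫ eulerMap n R = 0 := by
    rw [← Category.assoc, hχ, Category.assoc, kernel.condition, comp_zero]
  haveI : Epi (eulerCx n R).g := epi_eulerMap n R
  obtain ⟨c', hc'⟩ : ∃ c', eulerMap n R ≫ c' = χ ≫ eulerMap n R :=
    ⟨(shortExact_eulerCx n R).exact.desc _ h0, (shortExact_eulerCx n R).exact.g_desc _ h0⟩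
  obtain ⟨c, rfl⟩ := exists_smul_id c'
  have hχ2 : χ = c • 𝟙 _ := eq_smul_id (by rw [← hc', Linear.comp_smul, Category.comp_id])
  refine ⟨c, (cancel_mono (kernel.ι (eulerMap n R))).mp ?_⟩
  rw [← hχ, hχ2, Linear.comp_smul, Category.comp_id, Linear.smul_comp, Category.id_comp]

theorem exists_endOmega_eq_smul
    (φ : Omega.sheaf (CohB1.ProjSpace.toSpec n R) ⟶ Omega.sheaf (CohB1.ProjSpace.toSpec n R)) :
    ∃ c : R, φ = c • 𝟙 _ := by
  obtain ⟨c, hc⟩ := exists_endKK_eq_smul ((omegaIsoKK n R).inv ≫ φ ≫ (omegaIsoKK n R).hom)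
  refine ⟨c, ?_⟩
  calc φ = (omegaIsoKK n R).hom ≫ ((omegaIsoKK n R).inv ≫ φ ≫ (omegaIsoKK n R).hom) ≫ (omegaIsoKK n R).inv := by simp
    _ = c • 𝟙 _ := by simp [hc]

end Over

end Groth.Agent.EulerSeq
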