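import Groth.Agent.EulerSeq.Twist1
import Groth.Agent.LFFrame.Basic

/-!
# The kernel of a locally split map of free modules is free
-/

set_option autoImplicit false
set_option backward.isDefEq.respectTransparency false
set_option backward.isDefEq.respectTransparency.types false

universe u

open CategoryTheory Limits AlgebraicGeometry TopologicalSpace Opposite

noncomputable section

namespace Groth.Agent.EulerSeq

open OmegaSh

variable {X : Scheme.{u}} {S K : X.Modules} (Φ : S ⟶ K)

theorem isFrame_res {M : X.Modules} {U W : X.Opens} {N : ℕ} {t : Fin N → Γ(M, U)} (ht : LFFrame.IsFrame M U t)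
    (hW : W ≤ U) : LFFrame.IsFrame M W fun m => M.presheaf.map (homOfLE hW).op (t m) := fun V hV => by
  have e : LFFrame.comb M (fun m => M.presheaf.map (homOfLE hW).op (t m)) hV = LFFrame.comb M t (hV.trans hW) :=
    funext fun a => Finset.sum_congr rfl fun m _ => congrArg (a m • ·) (LFFrame.res_res M hW hV _)
  rw [e]
  exact ht V _

theorem isFrame_change {M : X.Modules} {U : X.Opens} {N : ℕ} {t : Fin N → Γ(M, U)} (ht : LFFrame.IsFrame M U t)
    (A : Matrix (Fin N) (Fin N) Γ(X, U)) (g : Fin N → Γ(M, U)) (hg : ∀ j, g j = ∑ k, A j k • t k) :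
    LFFrame.IsFrame M (X.basicOpen A.det) fun j => M.presheaf.map (homOfLE (X.basicOpen_le A.det)).op (g j) := by
  intro V hV
  have hU : V ≤ U := hV.trans (X.basicOpen_le A.det)
  let ρ := (X.presheaf.map (homOfLE hU).op).hom
  let B : Matrix (Fin N) (Fin N) Γ(X, V) := A.map ρ
  have hdet : IsUnit B.det := by
    rw [show B.det = ρ A.det from (RingHom.map_det ρ _).symm]
    have h := (X.toLocallyRingedSpace.toRingedSpace.isUnit_res_basicOpen A.det).map
      (X.presheaf.map (homOfLE hV).op).hom
    have e0 : X.presheaf.map (homOfLE hV).op (X.presheaf.map (homOfLE (X.basicOpen_le A.det)).op A.det) =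
        X.presheaf.map (homOfLE hU).op A.det :=
      (ConcreteCategory.congr_hom (X.presheaf.map_comp (homOfLE (X.basicOpen_le A.det)).op (homOfLE hV).op) A.det).symm
    exact (congrArg IsUnit e0).mp h
  have e : LFFrame.comb M (fun j => M.presheaf.map (homOfLE (X.basicOpen_le A.det)).op (g j)) hV =
      LFFrame.comb M t hU ∘ fun a => Matrix.vecMul a B := funext fun a => by
    have e1 : ∀ j, M.presheaf.map (homOfLE hV).op (M.presheaf.map (homOfLE (X.basicOpen_le A.det)).op (g j)) =
        ∑ k, B j k • M.presheaf.map (homOfLE hU).op (t k) := fun j => by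
      rw [LFFrame.res_res, hg, map_sum]
      exact Finset.sum_congr rfl fun k _ => Scheme.Modules.map_smul _ _ _ _
    simp only [LFFrame.comb, Function.comp_apply, e1, Finset.smul_sum, smul_smul, Matrix.vecMul, dotProduct,
      Finset.sum_smul]
    exact Finset.sum_comm
  rw [e]
  refine (ht V _).comp (Function.bijective_iff_has_inverse.mpr
    ⟨fun a => Matrix.vecMul a B⁻¹, fun a => ?_, fun a => ?_⟩)
  · show Matrix.vecMul (Matrix.vecMul a B) B⁻¹ = a
    rw [Matrix.vecMul_vecMul, Matrix.mul_nonsing_inv B hdet, Matrix.vecMul_one]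
  · show Matrix.vecMul (Matrix.vecMul a B⁻¹) B = a
    rw [Matrix.vecMul_vecMul, Matrix.nonsing_inv_mul B hdet, Matrix.vecMul_one]

theorem app_comb {U V : X.Opens} {N : ℕ} (s : Fin N → Γ(S, U)) (h : V ≤ U) (a : Fin N → Γ(X, V)) :
    Φ.app V (LFFrame.comb S s h a) = LFFrame.comb K (fun m => Φ.app U (s m)) h a := by
  rw [LFFrame.comb, map_sum]
  refine Finset.sum_congr rfl fun m _ => ?_
  rw [Scheme.Modules.Hom.app_smul]
  exact congrArg (a m • ·) (PresheafOfModules.naturality_apply Φ.val (homOfLE h).op (s m))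

theorem exists_frame_kernel {U : X.Opens} {N r n : ℕ} (s : Fin N → Γ(S, U)) (hs : LFFrame.IsFrame S U s)
    (e : Fin r ⊕ Fin n ≃ Fin N) (hg : LFFrame.IsFrame K U fun j => Φ.app U (s (e (Sum.inr j)))) :
    ∃ k : Fin r → Γ(kernel Φ, U), LFFrame.IsFrame (kernel Φ) U k := by
  choose b hb using fun p : Fin r => (hg U le_rfl).2 (Φ.app U (s (e (Sum.inl p))))
  have hres : ∀ (M : X.Modules) (m : Γ(M, U)), M.presheaf.map (homOfLE (le_refl U)).op m = m := fun M m =>
    ConcreteCategory.congr_hom (M.presheaf.map_id (op U)) m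
  have hz : ∀ p, Φ.app U (s (e (Sum.inl p)) - ∑ j, b p j • s (e (Sum.inr j))) = 0 := fun p => by
    rw [map_sub, sub_eq_zero, map_sum, ← hb p, LFFrame.comb]
    refine Finset.sum_congr rfl fun j _ => ?_
    rw [Scheme.Modules.Hom.app_smul, hres]
  let k : Fin r → Γ(kernel Φ, U) := fun p => kerLift Φ U _ (hz p)
  refine ⟨k, fun V hV => ?_⟩
  let bV : Fin r → Fin n → Γ(X, V) := fun p j => X.presheaf.map (homOfLE hV).op (b p j)
  have hk : ∀ a : Fin r → Γ(X, V), (kernel.ι Φ).app V (LFFrame.comb (kernel Φ) k hV a) =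
      LFFrame.comb S s hV (fun m => Sum.elim a (fun j => -∑ p, a p * bV p j) (e.symm m)) := by
    intro a
    rw [app_comb]
    simp only [k, ι_kerLift, LFFrame.comb, map_sub, map_sum, Scheme.Modules.map_smul, smul_sub, Finset.smul_sum,
      smul_smul, Finset.sum_sub_distrib]
    rw [← Fintype.sum_equiv e (fun x => Sum.elim a (fun j => -∑ p, a p * bV p j) x •
      S.presheaf.map (homOfLE hV).op (s (e x))) _ (fun x => by simp), Fintype.sum_sum_type]
    simp only [Sum.elim_inl, Sum.elim_inr, neg_smul, Finset.sum_smul, Finset.sum_neg_distrib, sub_eq_add_neg]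
    rw [Finset.sum_comm (f := fun p j => (a p * bV p j) • _)]
  constructor
  · intro a a' h
    have h2 := (hs V hV).1 ((hk a).symm.trans ((congrArg _ h).trans (hk a')))
    funext p
    simpa using congrFun h2 (e (Sum.inl p))
  · intro f
    obtain ⟨a, ha⟩ := (hs V hV).2 ((kernel.ι Φ).app V f)
    refine ⟨fun p => a (e (Sum.inl p)), ι_app_injective Φ V ?_⟩
    rw [hk, ← ha]
    let c : Fin n → Γ(X, V) := fun j => a (e (Sum.inr j)) + ∑ p, a (e (Sum.inl p)) * bV p j
    have hcomb : LFFrame.comb K (fun j => Φ.app U (s (e (Sum.inr j)))) hV c = 0 := by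
      have h0 : Φ.app V (LFFrame.comb S s hV a) = 0 := by
        rw [ha]
        exact congrArg (fun φ : kernel Φ ⟶ K => φ.app V f) (kernel.condition Φ)
      rw [app_comb] at h0
      have hb' : ∀ p, K.presheaf.map (homOfLE hV).op (Φ.app U (s (e (Sum.inl p)))) =
          LFFrame.comb K (fun j => Φ.app U (s (e (Sum.inr j)))) hV (bV p) := fun p => by
        rw [← hb p, LFFrame.res_comb]
      simp only [LFFrame.comb] at h0 hb' ⊢
      rw [← Fintype.sum_equiv e (fun x => a (e x) • K.presheaf.map (homOfLE hV).op (Φ.app U (s (e x)))) _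
        (fun x => rfl), Fintype.sum_sum_type] at h0
      simp only [hb', Finset.smul_sum, smul_smul] at h0
      rw [Finset.sum_comm] at h0
      simp only [c, add_smul, Finset.sum_smul, Finset.sum_add_distrib]
      rw [add_comm]
      exact h0
    have hc : c = 0 := (hg V hV).1 (hcomb.trans (by simp [LFFrame.comb]))
    congr 1
    funext m
    obtain ⟨x, rfl⟩ := e.surjective m
    rw [Equiv.symm_apply_apply]
    rcases x with p | j
    · rfl
    · exact (eq_neg_of_add_eq_zero_left (congrFun hc j)).symm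

theorem epi_of_frames (h : ∀ x : X, ∃ (U : X.Opens) (n : ℕ) (g : Fin n → Γ(S, U)), x ∈ U ∧
    LFFrame.IsFrame K U fun j => Φ.app U (g j)) : Epi Φ := by
  refine Omega.Stalks.epi_of_stalk fun x t => ?_
  obtain ⟨U, n, g, hx, hg⟩ := h x
  obtain ⟨a, rfl⟩ := (hg.stalkComb_bijective x hx).2 t
  refine ⟨LFFrame.stalkComb S g x hx a, ?_⟩
  simp only [LFFrame.stalkComb, Fintype.linearCombination_apply, map_sum, map_smul]
  exact Finset.sum_congr rfl fun j _ => congrArg (a j • ·) (Groth.Agent.PullStalk.Exact.stalkLin_germ Φ U x hx (g j))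

end Groth.Agent.EulerSeq
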