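import Groth.Agent.EulerSeq.NullCorr
import Mathlib.LinearAlgebra.Dual.Lemmas

/-!
# Kernels of surjections `O(-1)^q ⟶ O` on `P^m_k`: `Ω ⊕ O(-1)^(q-m-1)`
-/

set_option autoImplicit false
set_option backward.isDefEq.respectTransparency false
set_option backward.isDefEq.respectTransparency.types false

universe u

open CategoryTheory Limits AlgebraicGeometry TopologicalSpace Opposite MvPolynomial

noncomputable section

namespace Groth.Agent.EulerSeq

open Twist Groth.Agent.ProjTwist OmegaSh Groth.Agent.PullStalk.Sky Groth.Agent.PullStalk.Exact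

variable {k : Type u} [Field k] {m : ℕ}

/-- `aeval` at a multiple of `v` -/
def lineEval (v : Fin (m + 1) → k) : MvPolynomial (Fin (m + 1)) k →ₐ[k] Polynomial k :=
  aeval fun a => Polynomial.C (v a) * Polynomial.X

theorem lineEval_homogeneous (v : Fin (m + 1) → k) {d : ℕ} {p : MvPolynomial (Fin (m + 1)) k}
    (hp : p.IsHomogeneous d) : lineEval v p = Polynomial.C (eval v p) * Polynomial.X ^ d := by
  rw [lineEval, aeval_def, eval₂_eq, eval_eq, map_sum, Finset.sum_mul]
  refine Finset.sum_congr rfl fun e he => ?_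
  have hdeg : ∑ l ∈ e.support, e l = d := by
    rw [← hp (mem_support_iff.mp he)]
    simp [Finsupp.weight_apply, Finsupp.sum]
  rw [map_mul, map_prod, ← hdeg, ← Finset.prod_pow_eq_pow_sum, mul_assoc, ← Finset.prod_mul_distrib]
  refine congrArg (_ * ·) (Finset.prod_congr rfl fun l _ => ?_)
  rw [map_pow, mul_pow]

/-- the rational point `[v]` -/
def ratPoint (v : Fin (m + 1) → k) (hv : v ≠ 0) : ProjectiveSpectrum (CohB1.polyGrading m k) where
  asHomogeneousIdeal := ⟨RingHom.ker (lineEval v), fun i r hr => by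
    have e : (DirectSum.decompose (CohB1.polyGrading m k) r i : MvPolynomial (Fin (m + 1)) k) =
        homogeneousComponent i r := decomposition.decompose'_apply r i
    rw [RingHom.mem_ker] at hr ⊢
    rw [e, lineEval_homogeneous v (homogeneousComponent_isHomogeneous i r)]
    have h2 := congrArg (Polynomial.coeff · i) hr
    simp only [Polynomial.coeff_zero] at h2
    rw [← sum_homogeneousComponent r, map_sum, Polynomial.finsetSum_coeff] at h2
    simp only [lineEval_homogeneous v (homogeneousComponent_isHomogeneous _ r), Polynomial.coeff_C_mul_X_pow] at h2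
    rw [Finset.sum_ite_eq] at h2
    split_ifs at h2 with h
    · rw [h2, map_zero, zero_mul]
    · rw [homogeneousComponent_eq_zero i r (by simpa using h), map_zero, map_zero, zero_mul]⟩
  isPrime := RingHom.ker_isPrime _
  not_irrelevant_le h := by
    obtain ⟨a, ha⟩ := Function.ne_iff.mp hv
    have hX : (X a : MvPolynomial (Fin (m + 1)) k) ∈ HomogeneousIdeal.irrelevant (CohB1.polyGrading m k) :=
      HomogeneousIdeal.mem_irrelevant_of_mem _ zero_lt_one (X_mem_polyGrading m k a)
    have h2 : lineEval v (X a) = 0 := h hX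
    rw [lineEval, aeval_X, mul_eq_zero, Polynomial.C_eq_zero] at h2
    rcases h2 with h2 | h2
    · exact ha h2
    · exact Polynomial.X_ne_zero h2

section Over

local instance : (CohB1.ProjSpace m k).Over (Spec (CommRingCat.of k)) := ⟨CohB1.ProjSpace.toSpec m k⟩

/-- `O(-1)^q` -/
abbrev EQ (m : ℕ) (k : Type u) [Field k] (q : ℕ) : (CohB1.ProjSpace m k).Modules :=
  ∐ fun _ : Fin q => Twist.twistProjSpace m k (-1)

/-- the map `O(-1)^q ⟶ O` given by linear forms -/
def formsMap {q : ℕ} (A : Matrix (Fin q) (Fin (m + 1)) k) : EQ m k q ⟶ Twist.twistProjSpace m k 0 :=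
  Sigma.desc fun l => ∑ a, A l a • mulVar m k a

/-- a scalar matrix -/
def matHom {p q : ℕ} (M : Matrix (Fin p) (Fin q) k) : EQ m k p ⟶ EQ m k q :=
  Sigma.desc fun i => ∑ j, M i j • Sigma.ι (fun _ : Fin q => Twist.twistProjSpace m k (-1)) j

theorem matHom_mul {p q r : ℕ} (M : Matrix (Fin p) (Fin q) k) (N : Matrix (Fin q) (Fin r) k) :
    matHom (m := m) M ≫ matHom N = matHom (M * N) := by
  refine Sigma.hom_ext _ _ fun i => ?_
  simp only [matHom, Sigma.ι_desc_assoc, Sigma.ι_desc, Preadditive.sum_comp, Linear.smul_comp, Finset.smul_sum,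
    smul_smul, Matrix.mul_apply, Finset.sum_smul]
  exact Finset.sum_comm

theorem matHom_one (q : ℕ) : matHom (m := m) (1 : Matrix (Fin q) (Fin q) k) = 𝟙 _ := by
  refine Sigma.hom_ext _ _ fun i => ?_
  simp [matHom, Matrix.one_apply]

theorem matHom_add {p q : ℕ} (M N : Matrix (Fin p) (Fin q) k) :
    matHom (m := m) M + matHom N = matHom (M + N) := by
  refine Sigma.hom_ext _ _ fun i => ?_
  simp [matHom, add_smul, Finset.sum_add_distrib]

theorem matHom_zero (p q : ℕ) : matHom (m := m) (0 : Matrix (Fin p) (Fin q) k) = 0 := by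
  refine Sigma.hom_ext _ _ fun i => ?_
  simp [matHom]

theorem matHom_formsMap {p q : ℕ} (M : Matrix (Fin p) (Fin q) k) (A : Matrix (Fin q) (Fin (m + 1)) k) :
    matHom M ≫ formsMap A = formsMap (M * A) := by
  refine Sigma.hom_ext _ _ fun i => ?_
  simp only [matHom, formsMap, Sigma.ι_desc_assoc, Sigma.ι_desc, Preadditive.sum_comp, Linear.smul_comp,
    Finset.smul_sum, smul_smul, Matrix.mul_apply, Finset.sum_smul]
  exact Finset.sum_comm

theorem formsMap_one : formsMap (1 : Matrix (Fin (m + 1)) (Fin (m + 1)) k) = eulerMap m k := by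
  refine Sigma.hom_ext _ _ fun i => ?_
  simp [formsMap, Matrix.one_apply]

theorem exists_formsMap {q : ℕ} (σ : EQ m k q ⟶ Twist.twistProjSpace m k 0) : ∃ A, σ = formsMap A := by
  classical
  choose p hp e using fun l => SerrePn.exists_mulHom_eq
    (Sigma.ι (fun _ : Fin q => Twist.twistProjSpace m k (-1)) l ≫ σ) (show ((1 : ℕ) : ℤ) + -1 = 0 by norm_num)
  refine ⟨fun l a => coeff (Finsupp.single a 1) (p l), Sigma.hom_ext _ _ fun l => ?_⟩
  rw [e l, formsMap, Sigma.ι_desc]
  have hsum : p l = ∑ a, C (coeff (Finsupp.single a 1) (p l)) * X a := by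
    ext d
    simp only [coeff_sum, coeff_C_mul, coeff_X']
    by_cases hd : d.degree = 1
    · obtain ⟨a, rfl⟩ := (Finsupp.range_single_one (σ := Fin (m + 1))).ge hd
      simp [Finsupp.single_left_inj]
    · rw [((mem_homogeneousSubmodule 1 (p l)).mp (hp l)).coeff_eq_zero hd]
      symm
      refine Finset.sum_eq_zero fun a _ => ?_
      rw [if_neg (fun h => hd (by rw [← h]; simp)), mul_zero]
  have hmem : (∑ a, C (coeff (Finsupp.single a 1) (p l)) * X a) ∈ CohB1.polyGrading m k 1 := hsum ▸ hp l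
  rw [← sum_smul_mulVar _ hmem]
  congr 1

/-- the unit section of `O(0)` -/
def oneSec (m : ℕ) (k : Type u) [Field k] (U : (CohB1.ProjSpace m k).Opens) : Γ(Twist.twistProjSpace m k 0, U) :=
  (numSec (SetLike.one_mem_graded (CohB1.polyGrading m k)) (op U) :
    sectN (𝒜 := CohB1.polyGrading m k) ((0 : ℕ) : ℤ) (op U))

theorem evN_oneSec {U : (CohB1.ProjSpace m k).Opens} (x : ProjectiveSpectrum (CohB1.polyGrading m k))
    (hx : x ∈ U) : evN x hx (oneSec m k U) = 1 :=
  (numSec_coe (SetLike.one_mem_graded (CohB1.polyGrading m k)) (op U) ⟨x, hx⟩).trans (map_one _)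

theorem eq_zero_of_epi {q : ℕ} (A : Matrix (Fin q) (Fin (m + 1)) k) [Epi (formsMap A)] (v : Fin (m + 1) → k)
    (hv : ∀ l, ∑ a, A l a * v a = 0) : v = 0 := by
  classical
  by_contra hne
  let x : CohB1.ProjSpace m k := ratPoint v hne
  let P := (ratPoint v hne).asHomogeneousIdeal.toIdeal
  haveI : P.IsPrime := (ratPoint v hne).isPrime
  obtain ⟨t, ht⟩ := stalk_surjective (formsMap A) x (germM _ ⊤ x (Opens.mem_top x) (oneSec m k ⊤))
  obtain ⟨U, hU, w, rfl⟩ := exists_germM_eq (EQ m k q) x t
  rw [stalkLin_germ] at ht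
  obtain ⟨W, hW, iU, iT, hWe⟩ := (Twist.twistProjSpace m k 0).presheaf.germ_eq x hU (Opens.mem_top x) _ _ ht
  have h1 : evN (ratPoint v hne) hU ((formsMap A).app U w) = 1 := by
    have h2 := congrArg (evN (ratPoint v hne) hW) hWe
    exact h2.trans (evN_oneSec (U := ⊤) (ratPoint v hne) (Opens.mem_top (ratPoint v hne)))
  let pr : Fin q → (EQ m k q ⟶ Twist.twistProjSpace m k (-1)) :=
    fun l => Sigma.desc fun l' => if l' = l then 𝟙 _ else 0
  have hsum : formsMap A = ∑ l, pr l ≫ ∑ a, A l a • mulVar m k a := by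
    refine Sigma.hom_ext _ _ fun l => ?_
    simp [formsMap, pr, Preadditive.comp_sum, ite_comp]
  let ev : (EQ m k q ⟶ Twist.twistProjSpace m k 0) →+ Loc (CohB1.polyGrading m k) (ratPoint v hne) :=
    AddMonoidHom.mk' (fun φ => evN (ratPoint v hne) hU (φ.app U w))
      fun φ ψ => map_add (evN (ratPoint v hne) hU) (φ.app U w) (ψ.app U w)
  have h3 : (1 : Loc (CohB1.polyGrading m k) (ratPoint v hne)) ∈
      IsLocalRing.maximalIdeal (Localization.AtPrime P) := by
    rw [← h1, hsum]
    refine (congrArg (· ∈ _) (map_sum ev (fun l => pr l ≫ ∑ a, A l a • mulVar m k a) Finset.univ)).mpr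
      (sum_mem fun l _ => ?_)
    have hp : (∑ a, C (A l a) * X a : MvPolynomial (Fin (m + 1)) k) ∈ CohB1.polyGrading m k 1 :=
      sum_mem fun a _ => (mem_homogeneousSubmodule _ _).mpr (isHomogeneous_C_mul_X _ _)
    show evN (ratPoint v hne) hU ((∑ a, A l a • mulVar m k a).app U ((pr l).app U w)) ∈ _
    rw [← sum_smul_mulVar (A l) hp, evN_mulHom]
    refine Ideal.mul_mem_right _ _ ((IsLocalization.AtPrime.to_map_mem_maximal_iff _ P _).mpr ?_)
    show lineEval v _ = 0
    simp only [map_sum, map_mul, lineEval, aeval_X, aeval_C, Polynomial.algebraMap_eq]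
    have e : ∀ a, Polynomial.C (A l a) * (Polynomial.C (v a) * Polynomial.X) =
        Polynomial.C (A l a * v a) * Polynomial.X := fun a => by rw [map_mul]; ring
    rw [Finset.sum_congr rfl fun a _ => e a, ← Finset.sum_mul, ← map_sum, hv l, map_zero, zero_mul]
  exact Ideal.one_notMem (IsLocalRing.maximalIdeal (Localization.AtPrime P)) h3

theorem exists_split {q r : ℕ} (hq : m + 1 + r = q) (A : Matrix (Fin q) (Fin (m + 1)) k)
    (hA : ∀ v : Fin (m + 1) → k, (∀ l, ∑ a, A l a * v a = 0) → v = 0) :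
    ∃ (S : Matrix (Fin (m + 1)) (Fin q) k) (C : Matrix (Fin r) (Fin q) k) (D : Matrix (Fin q) (Fin r) k),
      S * A = 1 ∧ C * A = 0 ∧ A * S + D * C = 1 ∧ S * D = 0 ∧ C * D = 1 := by
  classical
  let T : (Fin q → k) →ₗ[k] (Fin (m + 1) → k) := Matrix.toLinearMapRight' A
  have hT : Function.Surjective T := by
    rw [← LinearMap.range_eq_top]
    refine Submodule.eq_top_iff'.mpr ?_
    by_contra h
    push Not at h
    obtain ⟨y, hy⟩ := h
    obtain ⟨f, hf1, hf2⟩ := Submodule.exists_dual_map_eq_bot_of_notMem hy inferInstance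
    let c : Fin (m + 1) → k := fun a => f fun j => if a = j then 1 else 0
    have hfy : ∀ z, f z = ∑ a, z a * c a := fun z => by
      conv_lhs => rw [pi_eq_sum_univ z]
      simp [map_sum, c]
    refine hf1 ?_
    have hc : c = 0 := hA c fun l => by
      rw [← hfy]
      have : f (T (Pi.single l 1)) ∈ (LinearMap.range T).map f := ⟨_, ⟨_, rfl⟩, rfl⟩
      rw [hf2, Submodule.mem_bot] at this
      simpa [T, Matrix.single_one_vecMul, Matrix.row] using this
    simp [hfy, hc]
  obtain ⟨s, hs⟩ := T.exists_rightInverse_of_surjective (LinearMap.range_eq_top.mpr hT)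
  have hr : Module.finrank k (LinearMap.ker T) = r := by
    have := T.finrank_range_add_finrank_ker
    rw [LinearMap.range_eq_top.mpr hT, finrank_top] at this
    simp at this
    omega
  let b := (Module.finBasisOfFinrankEq k (LinearMap.ker T) hr).equivFun
  let P : (Fin q → k) →ₗ[k] (Fin r → k) := b.toLinearMap.comp
    (LinearMap.codRestrict (LinearMap.ker T) (LinearMap.id - s.comp T) fun x => by
      have h2 : ∀ y, T (s y) = y := fun y => LinearMap.congr_fun hs y
      simp [LinearMap.mem_ker, h2])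
  let J : (Fin r → k) →ₗ[k] (Fin q → k) := (LinearMap.ker T).subtype.comp b.symm.toLinearMap
  have h2 : ∀ y, T (s y) = y := fun y => LinearMap.congr_fun hs y
  have hTJ : ∀ c, T (J c) = 0 := fun c => (b.symm c).2
  have hPs : ∀ y, P (s y) = 0 := fun y => by
    refine (congrArg b (Subtype.ext ?_)).trans (map_zero b)
    simp [h2]
  have hPJ : ∀ c, P (J c) = c := fun c => by
    refine (congrArg b (Subtype.ext ?_)).trans (b.apply_symm_apply c)
    simp [J, hTJ]
  have hJP : ∀ x, s (T x) + J (P x) = x := fun x => by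
    have : J (P x) = x - s (T x) := by simp [J, P]
    rw [this, add_sub_cancel]
  have hA' : LinearMap.toMatrixRight' T = A := Matrix.toLinearMapRight'.symm_apply_apply A
  refine ⟨LinearMap.toMatrixRight' s, LinearMap.toMatrixRight' J, LinearMap.toMatrixRight' P, ?_, ?_, ?_, ?_, ?_⟩
  · rw [← hA', ← LinearMap.toMatrixRight'_comp, hs, LinearMap.toMatrixRight'_id]
  · rw [← hA', ← LinearMap.toMatrixRight'_comp, show T.comp J = 0 from LinearMap.ext hTJ, map_zero]
  · rw [← hA', ← LinearMap.toMatrixRight'_comp, ← LinearMap.toMatrixRight'_comp, ← map_add,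
      show s.comp T + J.comp P = LinearMap.id from LinearMap.ext hJP, LinearMap.toMatrixRight'_id]
  · rw [← LinearMap.toMatrixRight'_comp, show P.comp s = 0 from LinearMap.ext hPs, map_zero]
  · rw [← LinearMap.toMatrixRight'_comp, show P.comp J = LinearMap.id from LinearMap.ext hPJ,
      LinearMap.toMatrixRight'_id]

/-- The kernel of a surjection `O(-1)^q ⟶ O` on `P^m`. -/
theorem nonempty_kernel_iso {q r : ℕ} (hq : m + 1 + r = q) (σ : EQ m k q ⟶ Twist.twistProjSpace m k 0) [Epi σ] :
    Nonempty (kernel σ ≅ KK m k ⊞ EQ m k r) := by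
  obtain ⟨A, rfl⟩ := exists_formsMap σ
  obtain ⟨S, C, D, hSA, hCA, hAD, hSD, hCD⟩ := exists_split hq A (eq_zero_of_epi A)
  let a := matHom (m := m) A
  have ha : a ≫ eulerMap m k = formsMap A := by
    rw [← formsMap_one, matHom_formsMap, Matrix.mul_one]
  let f₁ : kernel (formsMap A) ⟶ KK m k := kernel.lift _ (kernel.ι (formsMap A) ≫ a)
    (by rw [Category.assoc, ha, kernel.condition])
  let g₁ : KK m k ⟶ kernel (formsMap A) := kernel.lift _ (kernel.ι (eulerMap m k) ≫ matHom S)
    (by rw [Category.assoc, matHom_formsMap, hSA, formsMap_one, kernel.condition])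
  let g₂ : EQ m k r ⟶ kernel (formsMap A) := kernel.lift _ (matHom C)
    (by
      rw [matHom_formsMap, hCA]
      refine Sigma.hom_ext _ _ fun i => ?_
      simp [formsMap])
  refine ⟨{ hom := biprod.lift f₁ (kernel.ι (formsMap A) ≫ matHom D), inv := biprod.desc g₁ g₂,
            hom_inv_id := ?_, inv_hom_id := ?_ }⟩
  · refine (cancel_mono (kernel.ι (formsMap A))).mp ?_
    simp only [biprod.lift_desc, Preadditive.add_comp, Category.assoc, g₁, g₂, kernel.lift_ι, Category.id_comp,
      f₁, kernel.lift_ι_assoc, a]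
    rw [matHom_mul, matHom_mul, ← Preadditive.comp_add, matHom_add, hAD, matHom_one, Category.comp_id]
  · apply biprod.hom_ext' <;> apply biprod.hom_ext
    · refine (cancel_mono (kernel.ι (eulerMap m k))).mp ?_
      simp [f₁, g₁, a, matHom_mul, hSA, matHom_one]
    · simp [g₁, matHom_mul, hSD, matHom_zero]
    · refine (cancel_mono (kernel.ι (eulerMap m k))).mp ?_
      simp [f₁, g₂, a, matHom_mul, hCA, matHom_zero]
    · simp [g₂, matHom_mul, hCD, matHom_one]

end Over

/-- `Ω_{P^1} ≅ O(-2)`. -/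
theorem nonempty_KK_one : Nonempty (KK 1 k ≅ Twist.twistProjSpace 1 k (-2)) := by
  haveI := mono_sympKK (n := 1) (R := k) odd_one
  have h := isFinLocFreeOfRank_cokernel_sympKK (n := 1) (R := k) odd_one
  haveI : Epi (sympKK k odd_one) := Preadditive.epi_of_cokernel_zero (by
    refine Omega.Stalks.hom_ext_stalk fun y => LinearMap.ext fun t => ?_
    obtain ⟨U, e, hy, he⟩ := CohDev.exists_frame h y
    obtain ⟨b, hb⟩ := (he.stalkComb_bijective y hy).2 (stalkLin (cokernel.π (sympKK k odd_one)) y t)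
    rw [Omega.Stalks.stalkLin_zero, ← hb, show b = 0 from funext fun i => Fin.elim0 i, map_zero])
  haveI := isIso_of_mono_of_epi (sympKK k odd_one)
  exact ⟨(asIso (sympKK k odd_one)).symm⟩

end Groth.Agent.EulerSeq
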