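import Groth.Agent.EulerSeq.Tango
import Groth.Agent.EulerSeq.CokerFrame
import Groth.Agent.VBLib.TwistLine

/-!
# Null-correlation presentations on odd dimensional projective spaces
-/

set_option autoImplicit false
set_option backward.isDefEq.respectTransparency false
set_option backward.isDefEq.respectTransparency.types false

universe u

open CategoryTheory Limits AlgebraicGeometry TopologicalSpace Opposite MvPolynomial

noncomputable section

namespace Groth.Agent.EulerSeq

open Twist Groth.Agent.ProjTwist OmegaSh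

variable {n : ℕ} {R : Type u} [CommRing R]

/-- the partner of a coordinate under the standard symplectic form -/
def partner (hn : Odd n) (l : Fin (n + 1)) : Fin (n + 1) :=
  ⟨if (l : ℕ) % 2 = 0 then l + 1 else l - 1, by
    obtain ⟨t, rfl⟩ := hn
    split_ifs <;> omega⟩

theorem partner_partner (hn : Odd n) (l : Fin (n + 1)) : partner hn (partner hn l) = l := by
  apply Fin.ext
  simp only [partner]
  split_ifs <;> omega

theorem partner_ne (hn : Odd n) (l : Fin (n + 1)) : partner hn l ≠ l := fun h => by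
  have := congrArg Fin.val h
  simp only [partner] at this
  split_ifs at this <;> omega

/-- signs of the standard symplectic form -/
def sgn (l : Fin (n + 1)) : ℤ := if (l : ℕ) % 2 = 0 then 1 else -1

theorem sgn_partner (hn : Odd n) (l : Fin (n + 1)) : sgn (partner hn l) = -sgn l := by
  simp only [sgn, partner]
  split_ifs <;> omega

variable (R) in
/-- components of the symplectic form -/
def sympPoly (hn : Odd n) (l : Fin (n + 1)) : MvPolynomial (Fin (n + 1)) R :=
  C (sgn l : R) * X (partner hn l)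

theorem sympPoly_mem (hn : Odd n) (l : Fin (n + 1)) : sympPoly R hn l ∈ CohB1.polyGrading n R 1 :=
  (mem_homogeneousSubmodule _ _).mpr (isHomogeneous_C_mul_X _ _)

theorem sum_X_mul_sympPoly (hn : Odd n) : ∑ l, X l * sympPoly R hn l = 0 :=
  Finset.sum_involution (fun l _ => partner hn l)
    (fun l _ => by
      simp only [sympPoly, partner_partner, sgn_partner, Int.cast_neg, map_neg]
      ring)
    (fun l _ _ => partner_ne hn l) (fun l _ => Finset.mem_univ _) (fun l _ => partner_partner hn l)

variable (R) in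
/-- multiplication by a component of the symplectic form -/
abbrev sympComp (hn : Odd n) (l : Fin (n + 1)) :
    Twist.twistProjSpace n R (-2) ⟶ Twist.twistProjSpace n R (-1) :=
  SerrePn.mulHom (-2) (-1) (sympPoly_mem (R := R) hn l) (by norm_num)

theorem sympComp_euler (hn : Odd n) :
    (∑ l, sympComp R hn l ≫ Sigma.ι (fun _ : Fin (n + 1) => Twist.twistProjSpace n R (-1)) l) ≫
      eulerMap n R = 0 := by
  simp only [Preadditive.sum_comp, Category.assoc, Sigma.ι_desc]
  refine twist_hom_ext fun U s x hx => ?_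
  let ev : (Twist.twistProjSpace n R (-2) ⟶ Twist.twistProjSpace n R 0) →+ Loc (CohB1.polyGrading n R) x :=
    AddMonoidHom.mk' (fun φ => evN x hx (φ.app U s)) fun φ ψ => map_add (evN x hx) (φ.app U s) (ψ.app U s)
  refine ((map_sum ev _ Finset.univ).trans ?_).trans (map_zero (evN x hx)).symm
  have e : ∀ l, ev (sympComp R hn l ≫ mulVar n R l) =
      algebraMap (MvPolynomial (Fin (n + 1)) R) (Loc (CohB1.polyGrading n R) x) (X l * sympPoly R hn l) *
        evN x hx s := fun l => by
    show evN x hx ((mulVar n R l).app U ((sympComp R hn l).app U s)) = _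
    rw [evN_mulVar, evN_mulHom, map_mul, mul_assoc]
  rw [Finset.sum_congr rfl fun l _ => e l, ← Finset.sum_mul, ← map_sum, sum_X_mul_sympPoly, map_zero, zero_mul]

variable (R) in
/-- the symplectic form as a map `O(-2) ⟶ Ω` -/
def sympKK (hn : Odd n) : Twist.twistProjSpace n R (-2) ⟶ KK n R :=
  kernel.lift (eulerMap n R) _ (sympComp_euler hn)

theorem cpt_sympKK (hn : Odd n) {U : (CohB1.ProjSpace n R).Opens} (l : Fin (n + 1))
    (s : Γ(Twist.twistProjSpace n R (-2), U)) (x : ProjectiveSpectrum (CohB1.polyGrading n R)) (hx : x ∈ U) :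
    cpt l x hx ((sympKK R hn).app U s) =
      algebraMap (MvPolynomial (Fin (n + 1)) R) (Loc (CohB1.polyGrading n R) x) (sympPoly R hn l) * evN x hx s := by
  have e : sympKK R hn ≫ kernel.ι (eulerMap n R) ≫ prE n R l = sympComp R hn l := by
    rw [sympKK, kernel.lift_ι_assoc, Preadditive.sum_comp, Finset.sum_eq_single l]
    · rw [Category.assoc, ι_prE, if_pos rfl, Category.comp_id]
    · intro l' _ hl
      rw [Category.assoc, ι_prE, if_neg hl, comp_zero]
    · intro h; exact absurd (Finset.mem_univ l) h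
  show evN x hx ((sympKK R hn ≫ kernel.ι (eulerMap n R) ≫ prE n R l).app U s) = _
  rw [e, evN_mulHom]

theorem isFrame_invSqSec (i : Fin (n + 1)) :
    LFFrame.IsFrame (Twist.twistProjSpace n R (-2)) (stdOpen n R i) ![invSqSec i] := by
  intro V hV
  have hcomb : ∀ a : Fin 1 → Γ(CohB1.ProjSpace n R, V),
      LFFrame.comb (Twist.twistProjSpace n R (-2)) ![invSqSec i] hV a =
        a 0 • (Twist.twistProjSpace n R (-2)).presheaf.map (homOfLE hV).op (invSqSec i) := fun a => by
    simp [LFFrame.comb]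
  constructor
  · intro a b h
    rw [hcomb, hcomb] at h
    funext j
    rw [Subsingleton.elim j 0]
    refine valAt_ext fun x hx => ?_
    have h3 := congrArg (fun s => evN x hx s * algebraMap (MvPolynomial (Fin (n + 1)) R)
      (Loc (CohB1.polyGrading n R) x) (X i) ^ 2) h
    simp only [evN_smul, evN_res, evN_invSqSec, mul_assoc, ← mul_pow] at h3
    have e : invX i le_rfl x (hV hx) * algebraMap (MvPolynomial (Fin (n + 1)) R)
        (Loc (CohB1.polyGrading n R) x) (X i) = 1 := (mul_comm _ _).trans (X_mul_invX i le_rfl x (hV hx))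
    rwa [e, one_pow, mul_one, mul_one] at h3
  · intro z
    obtain ⟨c, hc⟩ := exists_eq_smul_invSq i hV z
    exact ⟨fun _ => c, (hcomb _).trans hc⟩

theorem exists_frame_symp (hn : Odd n) (i : Fin (n + 1)) :
    ∃ (g : Fin n → Γ(KK n R, stdOpen n R i)) (p₀ : Fin n), LFFrame.IsFrame (KK n R) (stdOpen n R i) g ∧
      g p₀ = (sympKK R hn).app _ (invSqSec i) := by
  obtain ⟨k₀, hk₀⟩ := Fin.exists_succAbove_eq (partner_ne hn i)
  let c : Fin n → Γ(CohB1.ProjSpace n R, stdOpen n R i) :=
    fun k => sgn (i.succAbove k) • tFun i (partner hn (i.succAbove k)) le_rfl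
  have hc : IsUnit (c k₀) := by
    simp only [c, hk₀, partner_partner]
    rw [show tFun (R := R) i i (le_refl (stdOpen n R i)) = 1 from fracFun_self _ _, sgn]
    split_ifs
    · rw [one_smul]; exact isUnit_one
    · rw [neg_one_smul]; exact isUnit_one.neg
  refine ⟨Function.update (fun k => dKK (stdOpen n R i) (tFun i (i.succAbove k) le_rfl)) k₀
    (∑ k, c k • dKK (stdOpen n R i) (tFun i (i.succAbove k) le_rfl)), k₀,
    isFrame_update (isFrame_KK i) k₀ c hc, ?_⟩
  rw [Function.update_self]
  refine (KK_ext i le_rfl fun k x hx => ?_).symm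
  rw [cpt_sympKK, evN_invSqSec, cpt_dKK_tFun]
  let va : Γ(CohB1.ProjSpace n R, stdOpen n R i) →+ Loc (CohB1.polyGrading n R) x :=
    AddMonoidHom.mk' (fun c => valAt c x hx) fun c d => valAt_add c d x hx
  rw [show valAt (c k) x hx = va (c k) from rfl]
  simp only [c]
  rw [map_zsmul, show va (tFun i (partner hn (i.succAbove k)) le_rfl) =
    valAt (tFun (R := R) i (partner hn (i.succAbove k)) le_rfl) x hx from rfl, valAt_tFun, sympPoly, map_mul,
    map_intCast, map_intCast, zsmul_eq_mul]
  ring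

theorem mono_sympKK (hn : Odd n) : Mono (sympKK R hn) :=
  Omega.Stalks.mono_of_stalk fun x => by
    obtain ⟨i, hi⟩ := Opens.mem_iSup.mp ((iSup_stdOpen n R).ge (trivial : x ∈ (⊤ : (CohB1.ProjSpace n R).Opens)))
    obtain ⟨g, p₀, hg, h₀⟩ := exists_frame_symp (R := R) hn i
    exact stalkLin_injective_of_frames _ _ (isFrame_invSqSec i) g hg p₀ h₀ x hi

set_option maxHeartbeats 1600000 in
theorem isFinLocFreeOfRank_cokernel_sympKK (hn : Odd n) :
    FlatMod.IsFinLocFreeOfRank (n - 1) (cokernel (sympKK R hn)) := by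
  obtain ⟨m, rfl⟩ : ∃ m, n = m + 1 := ⟨n - 1, by obtain ⟨t, rfl⟩ := hn; omega⟩
  haveI := mono_sympKK (R := R) hn
  refine FinCov71.isFinLocFreeOfRank_of_frames fun x => ?_
  obtain ⟨i, hi⟩ := Opens.mem_iSup.mp ((iSup_stdOpen (m + 1) R).ge (trivial : x ∈ (⊤ : (CohB1.ProjSpace (m + 1) R).Opens)))
  obtain ⟨g, p₀, hg, h₀⟩ := exists_frame_symp (R := R) hn i
  exact ⟨stdOpen (m + 1) R i, fun p => (cokernel.π (sympKK R hn)).app _ (g (p₀.succAbove p)), hi,
    isFrame_cokernel (sympKK R hn) (invSqSec i) (isFrame_invSqSec i) g hg p₀ h₀⟩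

/-- A null-correlation presentation `O(-1) ⟶ Ω(1)` for odd `n`. -/
theorem exists_nullCorr (hn : Odd n) :
    ∃ u : Twist.twistProjSpace n R (-1) ⟶
        CohB1.tensorMod (Omega.sheaf (CohB1.ProjSpace.toSpec n R)) (Twist.twistProjSpace n R 1),
      Mono u ∧ FlatMod.IsFinLocFreeOfRank (n - 1) (cokernel u) := by
  haveI := mono_sympKK (R := R) hn
  let e := twistObjIso (n := n) (R := R) 1 (-2) (-1) (by norm_num)
  refine ⟨e.inv ≫ (TW n R 1).map (sympKK R hn) ≫ (omegaOneIso n R).inv, inferInstance, ?_⟩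
  have h1 : FlatMod.IsFinLocFreeOfRank 1 (Twist.twistProjSpace n R 1) :=
    FinCov71.isFinLocFreeOfRank_of_frames fun x => by
      obtain ⟨U, hx, ⟨φ⟩⟩ := isInvertible_twistProjSpace n R 1 x
      obtain ⟨e, he⟩ := LFFrame.exists_isFrame_of_split (M := Twist.twistProjSpace n R 1)
        (fun _ : Fin 1 => φ.inv) (fun _ => φ.hom) (fun i j => by simp [Subsingleton.elim i j]) (by simp)
      exact ⟨U, e, hx, he⟩
  have h2 := VBLib.ofRank_tensor h1 (isFinLocFreeOfRank_cokernel_sympKK (R := R) hn)
  rw [one_mul] at h2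
  exact fun x => (h2 x).elim fun U ⟨hx, ⟨φ⟩⟩ => ⟨U, hx, ⟨((Scheme.Modules.restrictFunctor U.ι).mapIso (PreservesCokernel.iso (TW n R 1) (sympKK R hn) ≪≫
    cokernel.mapIso _ _ e (omegaOneIso n R).symm (by simp [e]))).symm ≪≫ φ⟩⟩

end Groth.Agent.EulerSeq
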