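import Groth.Agent.EulerSeq.Hom
import Groth.Agent.ExtHom.Linear
import Groth.Agent.ProjTwist.Tensor

/-!
# `Ω_{P^n}(1)`: sections, endomorphisms, extensions by `O(-1)`
-/

set_option autoImplicit false
set_option backward.isDefEq.respectTransparency false
set_option backward.isDefEq.respectTransparency.types false

universe u

open CategoryTheory Limits AlgebraicGeometry TopologicalSpace Opposite MvPolynomial

noncomputable section

namespace Groth.Agent.EulerSeq

open Twist Groth.Agent.ProjTwist OmegaSh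

variable {n : ℕ} {R : Type u} [CommRing R]

local instance : (CohB1.ProjSpace n R).Over (Spec (CommRingCat.of R)) := ⟨CohB1.ProjSpace.toSpec n R⟩
local instance : HasExt.{u} (CohB1.ProjSpace n R).Modules := Groth.Agent.ModShf.schemeModulesHasExt _

/-- the twisting autoequivalence -/
abbrev TW (n : ℕ) (R : Type u) [CommRing R] (d : ℤ) :
    (CohB1.ProjSpace n R).Modules ⥤ (CohB1.ProjSpace n R).Modules :=
  (SerrePn.twEquiv (n := n) (R := R) d).functor

instance additive_TW (d : ℤ) : (TW n R d).Additive := Functor.additive_of_preserves_binary_products _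

theorem subsingleton_ext_TW {A B : (CohB1.ProjSpace n R).Modules} (d : ℤ) (i : ℕ)
    (h : Subsingleton (Abelian.Ext A B i)) : Subsingleton (Abelian.Ext ((TW n R d).obj A) ((TW n R d).obj B) i) := by
  have : (TW n R d).PreservesInjectiveObjects :=
    Functor.preservesInjectiveObjects_of_adjunction_of_preservesMonomorphisms
      (SerrePn.twEquiv (n := n) (R := R) d).symm.toAdjunction
  exact (Functor.mapExt_bijective_of_preservesInjectiveObjects (TW n R d) A B i).2.subsingleton

/-- `O(d)(O(a)) = O(d + a)` -/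
def twistObjIso (d a c : ℤ) (h : d + a = c) :
    (TW n R d).obj (Twist.twistProjSpace n R a) ≅ Twist.twistProjSpace n R c :=
  (nonempty_twistProjSpace_tensor n R d a).some ≪≫ eqToIso (by rw [h])

theorem subsingleton_HH_zero_of_hom {M : (CohB1.ProjSpace n R).Modules}
    (h : Subsingleton (Twist.twistProjSpace n R 0 ⟶ M)) : Subsingleton (Coh.HH (CohB1.ProjSpace n R) M 0) := by
  let e₀ : Coh.structureModule (CohB1.ProjSpace n R) ≅ Twist.twistProjSpace n R 0 :=
    twistZeroIso (CohB1.polyGrading n R)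
  have : Subsingleton (Coh.structureModule (CohB1.ProjSpace n R) ⟶ M) :=
    ⟨fun f g => (cancel_epi e₀.inv).mp (Subsingleton.elim _ _)⟩
  have : Subsingleton (Abelian.Ext (Coh.structureModule (CohB1.ProjSpace n R)) M 0) :=
    (Abelian.Ext.mk₀_bijective _ _).2.subsingleton
  have e := @Groth.Agent.S0491.result _ _ (Opens.grothendieckTopology (CohB1.ProjSpace n R))
    (CohB1.ProjSpace n R).ringCatSheaf inferInstance M 0
  exact e.elim fun e => e.symm.toEquiv.subsingleton

/-- `Hom(O(-1), Ω) = 0`. -/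
theorem hom_KK_eq_zero (f : Twist.twistProjSpace n R (-1) ⟶ KK n R) : f = 0 := by
  choose c hc using fun l => exists_smul_id (f ≫ kernel.ι (eulerMap n R) ≫ prE n R l)
  have h1 := congrArg (fun g => f ≫ kernel.ι (eulerMap n R) ≫ g)
    (congrArg (· ≫ eulerMap n R) (sum_prE n R))
  simp only [Preadditive.sum_comp, Preadditive.comp_sum, Category.assoc, Category.id_comp,
    Sigma.ι_desc, kernel.condition, comp_zero] at h1
  simp only [← Category.assoc] at h1
  simp only [Category.assoc f, hc, Linear.smul_comp, Category.id_comp] at h1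
  have hc0 := coeff_eq_zero h1
  refine (cancel_mono (kernel.ι (eulerMap n R))).mp ?_
  rw [zero_comp, ← Category.comp_id (f ≫ _), ← sum_prE n R, Preadditive.comp_sum]
  refine Finset.sum_eq_zero fun l _ => ?_
  rw [← Category.assoc, Category.assoc f, hc, congrFun hc0 l, Pi.zero_apply, zero_smul, zero_comp]

theorem subsingleton_ext_one_KK : Subsingleton (Abelian.Ext (KK n R) (Twist.twistProjSpace n R (-2)) 1) := by
  refine subsingleton_of_forall_eq 0 fun x => ?_
  have h2 : Subsingleton (Abelian.Ext (eulerCx n R).X₃ (Twist.twistProjSpace n R (-2)) 2) :=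
    SerrePn.subsingleton_ext_twist 0 (-2) 2 (Pn.subsingleton_twist _ 1 (by omega))
  obtain ⟨y, hy⟩ := Abelian.Ext.contravariant_sequence_exact₁ (shortExact_eulerCx n R) _ x
    (show 1 + 1 = 2 from rfl) (Subsingleton.elim _ _)
  have h1 : Subsingleton (Abelian.Ext (Twist.twistProjSpace n R (-1)) (Twist.twistProjSpace n R (-2)) 1) :=
    SerrePn.subsingleton_ext_twist (-1) (-2) 1 (Pn.subsingleton_twist _ 0 (by omega))
  have hy0 : y = 0 := by
    have e := (Abelian.Ext.mk₀_id_comp y).symm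
    rw [← sum_prE n R, Abelian.Ext.mk₀_sum, Abelian.Ext.sum_comp] at e
    refine e.trans (Finset.sum_eq_zero fun l _ => ?_)
    rw [← Abelian.Ext.mk₀_comp_mk₀_assoc,
      Subsingleton.elim ((Abelian.Ext.mk₀ (Sigma.ι _ l)).comp y _) 0, Abelian.Ext.comp_zero]
  rw [← hy, hy0, Abelian.Ext.comp_zero]

variable (n R) in
/-- `Ω(1)` -/
def omegaOneIso : CohB1.tensorMod (Omega.sheaf (CohB1.ProjSpace.toSpec n R)) (Twist.twistProjSpace n R 1) ≅
    (TW n R 1).obj (KK n R) :=
  tensComm _ _ ≪≫ (TW n R 1).mapIso (omegaIsoKK n R)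

variable {M : (CohB1.ProjSpace n R).Modules}

theorem subsingleton_ext_omegaOne :
    Subsingleton (Abelian.Ext (CohB1.tensorMod (Omega.sheaf (CohB1.ProjSpace.toSpec n R)) (Twist.twistProjSpace n R 1))
      (Twist.twistProjSpace n R (-1)) 1) :=
  Groth.Agent.DualAbs.subsingleton_ext_of_iso (omegaOneIso n R).symm (twistObjIso 1 (-2) (-1) (by norm_num))
    (subsingleton_ext_TW 1 1 subsingleton_ext_one_KK)

theorem TW_map_smul_id (d : ℤ) (N : (CohB1.ProjSpace n R).Modules) (c : R) :
    (TW n R d).map (c • 𝟙 N) = c • 𝟙 ((TW n R d).obj N) := by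
  rw [KLin.smul_id, KLin.smul_id]
  exact ExtHom.tensorBi_map_smulModΓ _ _ _

theorem exists_endOmegaOne_eq_smul
    (φ : CohB1.tensorMod (Omega.sheaf (CohB1.ProjSpace.toSpec n R)) (Twist.twistProjSpace n R 1) ⟶
      CohB1.tensorMod (Omega.sheaf (CohB1.ProjSpace.toSpec n R)) (Twist.twistProjSpace n R 1)) :
    ∃ c : R, φ = c • 𝟙 _ := by
  obtain ⟨χ, hχ⟩ := (TW n R 1).map_surjective ((omegaOneIso n R).inv ≫ φ ≫ (omegaOneIso n R).hom)
  obtain ⟨c, rfl⟩ := exists_endKK_eq_smul χ
  rw [TW_map_smul_id] at hχ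
  refine ⟨c, ?_⟩
  calc φ = (omegaOneIso n R).hom ≫ ((omegaOneIso n R).inv ≫ φ ≫ (omegaOneIso n R).hom) ≫ (omegaOneIso n R).inv := by simp
    _ = c • 𝟙 _ := by simp [← hχ]

theorem subsingleton_hom_omegaOne : Subsingleton (Twist.twistProjSpace n R 0 ⟶
    CohB1.tensorMod (Omega.sheaf (CohB1.ProjSpace.toSpec n R)) (Twist.twistProjSpace n R 1)) := by
  refine subsingleton_of_forall_eq 0 fun f => ?_
  obtain ⟨χ, hχ⟩ := (TW n R 1).map_surjective ((twistObjIso 1 (-1) 0 (by norm_num)).hom ≫ f ≫ (omegaOneIso n R).hom)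
  rw [hom_KK_eq_zero χ, Functor.map_zero] at hχ
  calc f = (twistObjIso 1 (-1) 0 (by norm_num)).inv ≫ ((twistObjIso 1 (-1) 0 (by norm_num)).hom ≫ f ≫
        (omegaOneIso n R).hom) ≫ (omegaOneIso n R).inv := by simp
    _ = 0 := by simp [← hχ]

/-- The cokernel of a mono `O(-1) ⟶ Ω(1)` has no sections. -/
theorem hom_cokernel_eq_zero (u : Twist.twistProjSpace n R (-1) ⟶
      CohB1.tensorMod (Omega.sheaf (CohB1.ProjSpace.toSpec n R)) (Twist.twistProjSpace n R 1)) [Mono u]
    (f : Twist.twistProjSpace n R 0 ⟶ cokernel u) : f = 0 := by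
  have hS : (ShortComplex.mk u (cokernel.π u) (cokernel.condition u)).ShortExact :=
    { exact := ShortComplex.exact_of_g_is_cokernel _ (cokernelIsCokernel u) }
  have h1 : Subsingleton (Abelian.Ext (Twist.twistProjSpace n R 0) (Twist.twistProjSpace n R (-1)) 1) :=
    SerrePn.subsingleton_ext_twist 0 (-1) 1 (Pn.subsingleton_twist _ 0 (by omega))
  obtain ⟨g, hg⟩ := Abelian.Ext.covariant_sequence_exact₃ _ hS (Abelian.Ext.mk₀ f)
    (show 0 + 1 = 1 from rfl) (Subsingleton.elim _ _)
  obtain ⟨g, rfl⟩ := (Abelian.Ext.mk₀_bijective _ _).2 g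
  have := subsingleton_hom_omegaOne (n := n) (R := R)
  rw [Subsingleton.elim g 0, Abelian.Ext.mk₀_zero, Abelian.Ext.zero_comp] at hg
  exact (Abelian.Ext.mk₀_bijective _ _).1 (hg.symm.trans (Abelian.Ext.mk₀_zero _ _).symm)

/-- Every map between cokernels of monos `O(-1) ⟶ Ω(1)` is induced by a scalar. -/
theorem exists_lift_cokernel_hom (a a' : Twist.twistProjSpace n R (-1) ⟶
      CohB1.tensorMod (Omega.sheaf (CohB1.ProjSpace.toSpec n R)) (Twist.twistProjSpace n R 1)) [Mono a']
    (φ : cokernel a ⟶ cokernel a') : ∃ c : R, cokernel.π a ≫ φ = c • cokernel.π a' := by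
  have hS : (ShortComplex.mk a' (cokernel.π a') (cokernel.condition a')).ShortExact :=
    { exact := ShortComplex.exact_of_g_is_cokernel _ (cokernelIsCokernel a') }
  have h1 := subsingleton_ext_omegaOne (n := n) (R := R)
  obtain ⟨g, hg⟩ := Abelian.Ext.covariant_sequence_exact₃ _ hS (Abelian.Ext.mk₀ (cokernel.π a ≫ φ))
    (show 0 + 1 = 1 from rfl) (Subsingleton.elim _ _)
  obtain ⟨g, rfl⟩ := (Abelian.Ext.mk₀_bijective _ _).2 g
  obtain ⟨c, rfl⟩ := exists_endOmegaOne_eq_smul g
  rw [Abelian.Ext.mk₀_comp_mk₀] at hg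
  refine ⟨c, ?_⟩
  rw [← (Abelian.Ext.mk₀_bijective _ _).1 hg, Linear.smul_comp, Category.id_comp]

end Groth.Agent.EulerSeq
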