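import Groth.Agent.EulerSeq.Restrict
import Groth.Agent.EulerSeq.Twist1

/-!
# Restriction of null-correlation bundles to a plane
-/

set_option autoImplicit false
set_option backward.isDefEq.respectTransparency false
set_option backward.isDefEq.respectTransparency.types false

universe u

open CategoryTheory Limits AlgebraicGeometry TopologicalSpace Opposite MvPolynomial

noncomputable section

namespace Groth.Agent.EulerSeq

open Twist Groth.Agent.ProjTwist OmegaSh

variable {k : Type u} [Field k] {m n : ℕ}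

local instance : HasExt.{u} (CohB1.ProjSpace m k).Modules := Groth.Agent.ModShf.schemeModulesHasExt _

theorem nontrivial_HH_zero {M : (CohB1.ProjSpace m k).Modules}
    (f : Twist.twistProjSpace m k 0 ⟶ M) (hf : f ≠ 0) : Nontrivial (Coh.HH (CohB1.ProjSpace m k) M 0) := by
  let e₀ : Coh.structureModule (CohB1.ProjSpace m k) ≅ Twist.twistProjSpace m k 0 :=
    twistZeroIso (CohB1.polyGrading m k)
  have : Nontrivial (Coh.structureModule (CohB1.ProjSpace m k) ⟶ M) :=
    ⟨⟨e₀.hom ≫ f, 0, fun h => hf ((cancel_epi e₀.hom).mp (h.trans comp_zero.symm))⟩⟩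
  have : Nontrivial (Abelian.Ext (Coh.structureModule (CohB1.ProjSpace m k)) M 0) :=
    (Abelian.Ext.mk₀_bijective _ _).1.nontrivial
  have e := @Groth.Agent.S0491.result _ _ (Opens.grothendieckTopology (CohB1.ProjSpace m k))
    (CohB1.ProjSpace m k).ringCatSheaf inferInstance M 0
  exact e.elim fun e => e.toEquiv.injective.nontrivial

theorem hom_one_KK_eq_zero (hm : 1 ≤ m) (f : Twist.twistProjSpace m k 0 ⟶ KK m k) : f = 0 := by
  haveI : Subsingleton (Twist.twistProjSpace m k 0 ⟶ Twist.twistProjSpace m k (-1)) :=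
    SerrePn.subsingleton_hom hm (by norm_num)
  refine (cancel_mono (kernel.ι (eulerMap m k))).mp ?_
  rw [zero_comp, ← Category.comp_id (f ≫ _), ← sum_prE m k, Preadditive.comp_sum]
  exact Finset.sum_eq_zero fun l _ => by
    rw [← Category.assoc, Subsingleton.elim ((f ≫ kernel.ι (eulerMap m k)) ≫ prE m k l) 0, zero_comp]

/-- Sections of the cokernel of `O(-1) ⟶ Ω(1) ⊕ O`. -/
theorem plane_core (hm : 2 ≤ m) (a : Twist.twistProjSpace m k (-1) ⟶
      (TW m k 1).obj (KK m k ⊞ Twist.twistProjSpace m k (-1))) [Mono a]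
    {H : (CohB1.ProjSpace m k).Modules} (eH : cokernel a ≅ H) :
    Subsingleton (Coh.HH (CohB1.ProjSpace m k) (CohB1.tensorMod H (Twist.twistProjSpace m k (-1))) 0) ∧
      Nontrivial (Coh.HH (CohB1.ProjSpace m k) H 0) := by
  letI : (CohB1.ProjSpace m k).Over (Spec (CommRingCat.of k)) := ⟨CohB1.ProjSpace.toSpec m k⟩
  have hS : (ShortComplex.mk a (cokernel.π a) (cokernel.condition a)).ShortExact :=
    { exact := ShortComplex.exact_of_g_is_cokernel _ (cokernelIsCokernel a) }
  constructor
  · refine subsingleton_HH_zero_of_hom (subsingleton_of_forall_eq 0 fun f => ?_)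
    let et : (TW m k (-1)).obj (Twist.twistProjSpace m k 1) ≅ Twist.twistProjSpace m k 0 :=
      twistObjIso (-1) 1 0 (by norm_num)
    obtain ⟨g, hg⟩ := (TW m k (-1)).map_surjective (et.hom ≫ f ≫ (tensComm H (Twist.twistProjSpace m k (-1))).hom)
    have hg0 : g = 0 := by
      have h1 : Subsingleton (Abelian.Ext (Twist.twistProjSpace m k 1) (Twist.twistProjSpace m k (-1)) 1) :=
        SerrePn.subsingleton_ext_twist 1 (-1) 1 (Pn.subsingleton_twist _ 0 (by omega))
      obtain ⟨h, hh⟩ := Abelian.Ext.covariant_sequence_exact₃ _ hS (Abelian.Ext.mk₀ (g ≫ eH.inv))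
        (show 0 + 1 = 1 from rfl) (Subsingleton.elim _ _)
      obtain ⟨h, rfl⟩ := (Abelian.Ext.mk₀_bijective _ _).2 h
      rw [Abelian.Ext.mk₀_comp_mk₀] at hh
      have hh' := (Abelian.Ext.mk₀_bijective _ _).1 hh
      obtain ⟨l, hl⟩ := (TW m k 1).map_surjective
        ((twistObjIso (n := m) (R := k) 1 0 1 (by norm_num)).hom ≫ h)
      have hl0 : l = 0 := by
        haveI : Subsingleton (Twist.twistProjSpace m k 0 ⟶ Twist.twistProjSpace m k (-1)) :=
          SerrePn.subsingleton_hom (by omega) (by norm_num)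
        apply biprod.hom_ext
        · rw [hom_one_KK_eq_zero (by omega) (l ≫ biprod.fst), zero_comp]
        · exact Subsingleton.elim _ _
      rw [hl0, Functor.map_zero] at hl
      have h0 : h = 0 := (cancel_epi (twistObjIso (n := m) (R := k) 1 0 1 (by norm_num)).hom).mp
        (hl.symm.trans comp_zero.symm)
      rw [h0, zero_comp] at hh'
      exact (cancel_mono eH.inv).mp (hh'.symm.trans zero_comp.symm)
    rw [hg0, Functor.map_zero] at hg
    exact (cancel_mono (tensComm H (Twist.twistProjSpace m k (-1))).hom).mp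
      ((cancel_epi et.hom).mp (hg.symm.trans (by simp)))
  · let et : (TW m k 1).obj (Twist.twistProjSpace m k (-1)) ≅ Twist.twistProjSpace m k 0 :=
      twistObjIso 1 (-1) 0 (by norm_num)
    let s : Twist.twistProjSpace m k 0 ⟶ (TW m k 1).obj (KK m k ⊞ Twist.twistProjSpace m k (-1)) :=
      et.inv ≫ (TW m k 1).map biprod.inr
    refine nontrivial_HH_zero (s ≫ cokernel.π a ≫ eH.hom) fun h0 => ?_
    have h1 : s ≫ cokernel.π a = 0 := (cancel_mono eH.hom).mp (by rw [Category.assoc, h0, zero_comp])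
    haveI : Subsingleton (Twist.twistProjSpace m k 0 ⟶ Twist.twistProjSpace m k (-1)) :=
      SerrePn.subsingleton_hom (by omega) (by norm_num)
    have h2 : s = 0 := by
      rw [← Abelian.monoLift_comp a s h1, Subsingleton.elim (Abelian.monoLift a s h1) 0, zero_comp]
    have h3 : s ≫ (TW m k 1).map biprod.snd ≫ et.hom = 𝟙 (Twist.twistProjSpace m k 0) := by
      simp [s, ← Functor.map_comp_assoc]
    rw [h2, zero_comp] at h3
    have h4 := congrFun (coeff_eq_zero (c := fun l : Fin (m + 1) => (1 : k)) (Finset.sum_eq_zero fun l _ => by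
      rw [← Category.comp_id (mulVar m k l), ← h3, comp_zero, smul_zero])) 0
    exact one_ne_zero h4


/-- `i^* (Ω(1))` from `i^* Ω`. -/
def pullOneIso {Z : (CohB1.ProjSpace n k).Modules} {X : (CohB1.ProjSpace m k).Modules}
    (i : CohB1.ProjSpace m k ⟶ CohB1.ProjSpace n k) (eX : (Scheme.Modules.pullback i).obj Z ≅ X)
    (e₁ : (Scheme.Modules.pullback i).obj (Twist.twistProjSpace n k 1) ≅ Twist.twistProjSpace m k 1) :
    (Scheme.Modules.pullback i).obj (CohB1.tensorMod Z (Twist.twistProjSpace n k 1)) ≅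
      CohB1.tensorMod (Twist.twistProjSpace m k 1) X :=
  KFlat.PullTensor.pullTensorIso i Z (Twist.twistProjSpace n k 1) ≪≫ tensCongr eX e₁ ≪≫
    tensComm X (Twist.twistProjSpace m k 1)

/-- the core on a general source -/
theorem plane_core' (hm : 2 ≤ m) {L T H : (CohB1.ProjSpace m k).Modules} (a : L ⟶ T) [Mono a]
    (eL : L ≅ Twist.twistProjSpace m k (-1)) (eT : T ≅ (TW m k 1).obj (KK m k ⊞ Twist.twistProjSpace m k (-1)))
    (eH : cokernel a ≅ H) :
    Subsingleton (Coh.HH (CohB1.ProjSpace m k) (CohB1.tensorMod H (Twist.twistProjSpace m k (-1))) 0) ∧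
      Nontrivial (Coh.HH (CohB1.ProjSpace m k) H 0) :=
  plane_core hm (eL.inv ≫ a ≫ eT.hom) ((cokernel.mapIso a (eL.inv ≫ a ≫ eT.hom) eL eT (by simp)).symm ≪≫ eH)

set_option synthInstance.maxHeartbeats 200000 in
set_option maxHeartbeats 1000000 in
theorem nullCorr_restrict (hm : 2 ≤ m) {r : ℕ} (hr : n - 1 = r) (hmn : m + 1 + 1 = n + 1)
    (u : Twist.twistProjSpace n k (-1) ⟶
      CohB1.tensorMod (Omega.sheaf (CohB1.ProjSpace.toSpec n k)) (Twist.twistProjSpace n k 1))
    [Mono u] (hM : FlatMod.IsFinLocFreeOfRank r (cokernel u))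
    (i : CohB1.ProjSpace m k ⟶ CohB1.ProjSpace n k)
    (hO : Nonempty ((Scheme.Modules.pullback i).obj (Twist.twistProjSpace n k 1) ≅ Twist.twistProjSpace m k 1)) :
    Subsingleton (Coh.HH (CohB1.ProjSpace m k)
        (CohB1.tensorMod ((Scheme.Modules.pullback i).obj (cokernel u)) (Twist.twistProjSpace m k (-1))) 0) ∧
      Nontrivial (Coh.HH (CohB1.ProjSpace m k) ((Scheme.Modules.pullback i).obj (cokernel u)) 0) := by
  obtain ⟨e₁⟩ := nonempty_pullNegOne i hO
  obtain ⟨eK⟩ := nonempty_pullback_KK i hmn hO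
  have eX : (Scheme.Modules.pullback i).obj (Omega.sheaf (CohB1.ProjSpace.toSpec n k)) ≅
      KK m k ⊞ Twist.twistProjSpace m k (-1) :=
    (Scheme.Modules.pullback i).mapIso (omegaIsoKK n k) ≪≫ eK ≪≫ biprod.mapIso (Iso.refl (KK m k))
      (coproductUniqueIso fun _ : Fin 1 => Twist.twistProjSpace m k (-1))
  haveI : PreservesColimitsOfSize.{0, 0} (Scheme.Modules.pullback i) :=
    (Scheme.Modules.pullbackPushforwardAdjunction i).leftAdjoint_preservesColimits
  haveI : Mono ((Scheme.Modules.pullback i).map u) := EpiLocus.mono_pullback_of_isFinLocFree_cokernel u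
    (fun x => let ⟨U, hx, h⟩ := hM x; ⟨U, r, hx, h⟩) i
  exact plane_core' hm ((Scheme.Modules.pullback i).map u) e₁ (pullOneIso i eX hO.some)
    (PreservesCokernel.iso (Scheme.Modules.pullback i) u).symm

end Groth.Agent.EulerSeq
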