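import Groth.Agent.ProjTwist.Ratio
import Groth.Agent.ProjTwist.Pn.Scalar
import Groth.Agent.Omega.LocDer
import Mathlib.Algebra.MvPolynomial.PDeriv
import Mathlib.RingTheory.MvPolynomial.EulerIdentity

/-!
# Partial derivatives of functions on opens of `P^n`, as sections of `O(-1)`
-/

set_option autoImplicit false

universe u

open CategoryTheory AlgebraicGeometry TopologicalSpace Opposite MvPolynomial

noncomputable section

namespace Groth.Agent.EulerSeq

open Twist Groth.Agent.ProjTwist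

variable {n : ℕ} {R : Type u} [CommRing R]

/-- `∂/∂x_j` followed by the map to the local ring at `x`. -/
def pdPre (j : Fin (n + 1)) (x : ProjectiveSpectrum (CohB1.polyGrading n R)) :
    MvPolynomial (Fin (n + 1)) R →+ Loc (CohB1.polyGrading n R) x :=
  (algebraMap (MvPolynomial (Fin (n + 1)) R) (Loc (CohB1.polyGrading n R) x)).toAddMonoidHom.comp
    (pderiv j).toLinearMap.toAddMonoidHom

theorem pdPre_apply (j : Fin (n + 1)) (x : ProjectiveSpectrum (CohB1.polyGrading n R))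
    (a : MvPolynomial (Fin (n + 1)) R) : pdPre j x a = algebraMap _ _ (pderiv j a) := rfl

theorem exists_pdLoc (j : Fin (n + 1)) (x : ProjectiveSpectrum (CohB1.polyGrading n R)) :
    ∃ D : Loc (CohB1.polyGrading n R) x →+ Loc (CohB1.polyGrading n R) x,
      (∀ a b, D (a * b) = a • D b + b • D a) ∧ ∀ b, D (algebraMap _ _ b) = pdPre j x b :=
  have := x.isPrime
  Omega.LocDer.exists_extension x.asHomogeneousIdeal.toIdeal.primeCompl (pdPre j x) fun a b => by
    simp only [pdPre_apply, pderiv_mul, map_add, map_mul, smul_eq_mul]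
    ring

/-- `∂/∂x_j` on the local ring. -/
def pdLoc (j : Fin (n + 1)) (x : ProjectiveSpectrum (CohB1.polyGrading n R)) :
    Loc (CohB1.polyGrading n R) x →+ Loc (CohB1.polyGrading n R) x :=
  (exists_pdLoc j x).choose

theorem pdLoc_mul (j : Fin (n + 1)) (x : ProjectiveSpectrum (CohB1.polyGrading n R))
    (a b : Loc (CohB1.polyGrading n R) x) : pdLoc j x (a * b) = a * pdLoc j x b + b * pdLoc j x a :=
  (exists_pdLoc j x).choose_spec.1 a b

theorem pdLoc_algebraMap (j : Fin (n + 1)) (x : ProjectiveSpectrum (CohB1.polyGrading n R))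
    (b : MvPolynomial (Fin (n + 1)) R) :
    pdLoc j x (algebraMap _ _ b) = algebraMap _ _ (pderiv j b) :=
  (exists_pdLoc j x).choose_spec.2 b

theorem pdLoc_one (j : Fin (n + 1)) (x : ProjectiveSpectrum (CohB1.polyGrading n R)) : pdLoc j x 1 = 0 := by
  have h := pdLoc_algebraMap j x 1
  rw [pderiv_one, map_zero, map_one] at h
  exact h

theorem pdLoc_mk (j : Fin (n + 1)) (x : ProjectiveSpectrum (CohB1.polyGrading n R))
    (a : MvPolynomial (Fin (n + 1)) R) (s : x.asHomogeneousIdeal.toIdeal.primeCompl) :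
    pdLoc j x (Localization.mk a s) =
      Localization.mk (s.1 * pderiv j a - a * pderiv j s.1) (s * s) := by
  have := x.isPrime
  rw [Localization.mk_eq_mk']
  set L := Loc (CohB1.polyGrading n R) x
  set q := IsLocalization.mk' L a s
  have hq : q * algebraMap _ L s.1 = algebraMap _ L a := IsLocalization.mk'_spec L a s
  have hd := congrArg (pdLoc j x) hq
  rw [pdLoc_mul, pdLoc_algebraMap, pdLoc_algebraMap] at hd
  refine IsLocalization.eq_mk'_iff_mul_eq.mpr ?_
  rw [Submonoid.coe_mul, map_mul, map_sub, map_mul, map_mul]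
  linear_combination (algebraMap _ L s.1) * hd - (algebraMap _ L (pderiv j s.1)) * hq

/-- The numerator of the derivative of a fraction. -/
theorem numerator_mem {i : ℕ} {a s : MvPolynomial (Fin (n + 1)) R} (ha : a ∈ CohB1.polyGrading n R i)
    (hs : s ∈ CohB1.polyGrading n R i) (j : Fin (n + 1)) :
    s * pderiv j a - a * pderiv j s ∈ CohB1.polyGrading n R (2 * i - 1) := by
  have ha' := (mem_homogeneousSubmodule i a).mp ha
  have hs' := (mem_homogeneousSubmodule i s).mp hs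
  refine (mem_homogeneousSubmodule _ _).mpr ?_
  rcases Nat.eq_zero_or_pos i with rfl | hi
  · have hz : ∀ p : MvPolynomial (Fin (n + 1)) R, p.IsHomogeneous 0 → pderiv j p = 0 := fun p hp => by
      rw [totalDegree_eq_zero_iff_eq_C.mp (Nat.le_zero.mp hp.totalDegree_le), pderiv_C]
    rw [hz a ha', hz s hs', mul_zero, mul_zero, sub_zero]
    exact isHomogeneous_zero _ _ _
  · have e : i + (i - 1) = 2 * i - 1 := by omega
    exact e ▸ (hs'.mul ha'.pderiv).sub (ha'.mul hs'.pderiv)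

theorem numerator_zero_of_deg {a s : MvPolynomial (Fin (n + 1)) R} (ha : a ∈ CohB1.polyGrading n R 0)
    (hs : s ∈ CohB1.polyGrading n R 0) (j : Fin (n + 1)) : s * pderiv j a - a * pderiv j s = 0 := by
  have hz : ∀ p : MvPolynomial (Fin (n + 1)) R, p.IsHomogeneous 0 → pderiv j p = 0 := fun p hp => by
    rw [totalDegree_eq_zero_iff_eq_C.mp (Nat.le_zero.mp hp.totalDegree_le), pderiv_C]
  rw [hz a ((mem_homogeneousSubmodule 0 a).mp ha), hz s ((mem_homogeneousSubmodule 0 s).mp hs)]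
  ring

theorem sum_X_mul_numerator {i : ℕ} {a s : MvPolynomial (Fin (n + 1)) R} (ha : a ∈ CohB1.polyGrading n R i)
    (hs : s ∈ CohB1.polyGrading n R i) :
    ∑ j : Fin (n + 1), X j * (s * pderiv j a - a * pderiv j s) = 0 := by
  have ea := ((mem_homogeneousSubmodule i a).mp ha).sum_X_mul_pderiv
  have es := ((mem_homogeneousSubmodule i s).mp hs).sum_X_mul_pderiv
  calc ∑ j : Fin (n + 1), X j * (s * pderiv j a - a * pderiv j s)
      = s * ∑ j : Fin (n + 1), X j * pderiv j a - a * ∑ j : Fin (n + 1), X j * pderiv j s := by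
        rw [Finset.mul_sum, Finset.mul_sum, ← Finset.sum_sub_distrib]
        exact Finset.sum_congr rfl fun j _ => by ring
    _ = 0 := by rw [ea, es]; simp only [nsmul_eq_mul]; ring

theorem mk_eq_mul {x : ProjectiveSpectrum (CohB1.polyGrading n R)} (b : MvPolynomial (Fin (n + 1)) R)
    (t : x.asHomogeneousIdeal.toIdeal.primeCompl) :
    Localization.mk b t = algebraMap _ (Loc (CohB1.polyGrading n R) x) b * Localization.mk 1 t := by
  rw [ProjTwist.Pn.mk_mul_algebraMap, mul_one]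

theorem exists_rep {U : (CohB1.ProjSpace n R).Opens} (c : Γ(CohB1.ProjSpace n R, U))
    (x : ProjectiveSpectrum (CohB1.polyGrading n R)) (hx : x ∈ U) :
    ∃ (V : (CohB1.ProjSpace n R).Opens) (_ : x ∈ V) (hVU : V ≤ U) (i : ℕ) (a s : MvPolynomial (Fin (n + 1)) R)
      (_ : a ∈ CohB1.polyGrading n R i) (_ : s ∈ CohB1.polyGrading n R i)
      (nin : ∀ y : V, s ∉ (y.1 : ProjectiveSpectrum (CohB1.polyGrading n R)).asHomogeneousIdeal),
      ∀ y : V, valAt c y.1 (hVU y.2) = Localization.mk a ⟨s, nin y⟩ := by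
  obtain ⟨V, hV, iV, i, ⟨a, ha⟩, ⟨s, hs⟩, nin, hw⟩ :=
    (show O (𝒜 := CohB1.polyGrading n R) (op U) from c).2 ⟨x, hx⟩
  refine ⟨V, hV, iV.le, i, a, s, ha, hs, nin, fun y => ?_⟩
  have e : (show O (𝒜 := CohB1.polyGrading n R) (op U) from c).1 ⟨y.1, iV.le y.2⟩ =
      HomogeneousLocalization.mk ⟨i, ⟨a, ha⟩, ⟨s, hs⟩, nin y⟩ := hw y
  exact (congrArg HomogeneousLocalization.val e).trans (HomogeneousLocalization.val_mk _)

theorem pdLoc_mem (j : Fin (n + 1)) {U : (CohB1.ProjSpace n R).Opens} (c : Γ(CohB1.ProjSpace n R, U))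
    (x : ProjectiveSpectrum (CohB1.polyGrading n R)) (hx : x ∈ U) :
    pdLoc j x (valAt c x hx) ∈ twistAt (CohB1.polyGrading n R) (-1) x := by
  obtain ⟨V, hV, hVU, i, a, s, ha, hs, nin, h⟩ := exists_rep c x hx
  rw [h ⟨x, hV⟩, pdLoc_mk]
  rcases Nat.eq_zero_or_pos i with rfl | hi
  · rw [numerator_zero_of_deg ha hs, Localization.mk_zero]
    exact zero_mem _
  · exact Submodule.subset_span ⟨2 * i - 1, i + i, ⟨_, numerator_mem ha hs j⟩,
      ⟨_, SetLike.mul_mem_graded hs hs⟩,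
      fun hc => (x.isPrime.mem_or_mem hc).elim (nin ⟨x, hV⟩) (nin ⟨x, hV⟩), by push_cast; omega, rfl⟩

/-- `∂c/∂x_j`, a section of `O(-1)`. -/
def pdSec (j : Fin (n + 1)) (U : (CohB1.ProjSpace n R).Opens) (c : Γ(CohB1.ProjSpace n R, U)) :
    sectN (𝒜 := CohB1.polyGrading n R) (-1) (op U) :=
  ⟨fun x => ⟨pdLoc j x.1 (valAt c x.1 x.2), pdLoc_mem j c x.1 x.2⟩, fun x => by
    obtain ⟨V, hV, hVU, i, a, s, ha, hs, nin, h⟩ := exists_rep c x.1 x.2
    refine ⟨V, hV, homOfLE hVU, 2 * i - 1, i + i, ⟨_, numerator_mem ha hs j⟩,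
      ⟨_, SetLike.mul_mem_graded hs hs⟩,
      fun y hc => (y.1.isPrime.mem_or_mem hc).elim (nin y) (nin y), ?_, fun y => ?_⟩
    · rcases Nat.eq_zero_or_pos i with rfl | hi
      · exact Or.inr (numerator_zero_of_deg ha hs j)
      · exact Or.inl (by push_cast; omega)
    · show pdLoc j y.1 (valAt c y.1 (hVU y.2)) = _
      exact (congrArg (pdLoc j y.1) (h y)).trans (pdLoc_mk j y.1 a ⟨s, nin y⟩)⟩

theorem pdSec_coe (j : Fin (n + 1)) (U : (CohB1.ProjSpace n R).Opens) (c : Γ(CohB1.ProjSpace n R, U))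
    (x : U) : ((pdSec j U c).1 x).1 = pdLoc j x.1 (valAt c x.1 x.2) := rfl

theorem sum_X_mul_pdLoc {U : (CohB1.ProjSpace n R).Opens} (c : Γ(CohB1.ProjSpace n R, U))
    (x : ProjectiveSpectrum (CohB1.polyGrading n R)) (hx : x ∈ U) :
    ∑ j : Fin (n + 1), algebraMap (MvPolynomial (Fin (n + 1)) R) (Loc (CohB1.polyGrading n R) x) (X j) *
      pdLoc j x (valAt c x hx) = 0 := by
  obtain ⟨V, hV, hVU, i, a, s, ha, hs, nin, h⟩ := exists_rep c x hx
  have := x.isPrime
  refine (Finset.sum_congr rfl fun j _ => (congrArg (_ * ·)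
    ((congrArg (pdLoc j x) (h ⟨x, hV⟩)).trans (pdLoc_mk j x a ⟨s, nin ⟨x, hV⟩⟩))).trans
      ((ProjTwist.Pn.mk_mul_algebraMap _ _ _).trans
        (mk_eq_mul _ _))).trans ?_
  rw [← Finset.sum_mul, ← map_sum, sum_X_mul_numerator ha hs, map_zero, zero_mul]

end Groth.Agent.EulerSeq
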