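import Groth.Agent.EulerSeq.LinForms
import Groth.Agent.EpiLocus.Universal
import Groth.Agent.CMReg.PolyBoundField

/-!
# Pulling the Euler sequence back along a linear embedding `P^m ⟶ P^n`
-/

set_option autoImplicit false
set_option backward.isDefEq.respectTransparency false
set_option backward.isDefEq.respectTransparency.types false

universe u

open CategoryTheory Limits AlgebraicGeometry TopologicalSpace Opposite MvPolynomial

noncomputable section

namespace Groth.Agent.EulerSeq

open Twist Groth.Agent.ProjTwist OmegaSh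

variable {k : Type u} [Field k] {m n : ℕ} (i : CohB1.ProjSpace m k ⟶ CohB1.ProjSpace n k)

/-- `i^* O(0) ≅ O(0)` -/
def pullZeroIso : (Scheme.Modules.pullback i).obj (Twist.twistProjSpace n k 0) ≅ Twist.twistProjSpace m k 0 :=
  (Scheme.Modules.pullback i).mapIso (twistZeroIso (CohB1.polyGrading n k)).symm ≪≫
    PicLoc.pullbackStructureIso i ≪≫ twistZeroIso (CohB1.polyGrading m k)

theorem nonempty_pullNegOne
    (hO : Nonempty ((Scheme.Modules.pullback i).obj (Twist.twistProjSpace n k 1) ≅ Twist.twistProjSpace m k 1)) :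
    Nonempty ((Scheme.Modules.pullback i).obj (Twist.twistProjSpace n k (-1)) ≅ Twist.twistProjSpace m k (-1)) := by
  obtain ⟨e⟩ := hO
  have h1 := (nonempty_twistProjSpace_tensor n k (1 : ℤ) (-1)).some ≪≫
    eqToIso (by rw [add_neg_cancel]; rfl) ≪≫ (twistZeroIso (CohB1.polyGrading n k)).symm
  have h2 := (nonempty_twistProjSpace_tensor m k (1 : ℤ) (-1)).some ≪≫
    eqToIso (by rw [add_neg_cancel]; rfl) ≪≫ (twistZeroIso (CohB1.polyGrading m k)).symm
  exact CMReg.nonempty_iso_of_tens_one
    (tensCongr e.symm (Iso.refl _) ≪≫ (KFlat.PullTensor.pullTensorIso i _ _).symm ≪≫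
      (Scheme.Modules.pullback i).mapIso h1 ≪≫ PicLoc.pullbackStructureIso i) h2

theorem shortExact_pullback_euler :
    ((eulerCx n k).map (Scheme.Modules.pullback i)).ShortExact := by
  haveI := epi_eulerMap n k
  haveI : Epi (eulerCx n k).g := epi_eulerMap n k
  haveI : Mono (eulerCx n k).f := inferInstanceAs (Mono (kernel.ι (eulerMap n k)))
  have hC : IsColimit (CokernelCofork.ofπ (eulerCx n k).g (eulerCx n k).zero) :=
    (shortExact_eulerCx n k).exact.gIsCokernel
  haveI : Mono ((eulerCx n k).map (Scheme.Modules.pullback i)).f := by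
    refine EpiLocus.mono_pullback_of_isFinLocFree_cokernel (eulerCx n k).f ?_ i
    let e : cokernel (eulerCx n k).f ≅ Twist.twistProjSpace n k 0 :=
      IsColimit.coconePointUniqueUpToIso (cokernelIsCokernel (eulerCx n k).f) hC
    intro x
    obtain ⟨U, hx, ⟨φ⟩⟩ := isInvertible_twistProjSpace n k 0 x
    obtain ⟨g, hg⟩ := LFFrame.exists_isFrame_of_split (M := Twist.twistProjSpace n k 0)
      (fun _ : Fin 1 => φ.inv) (fun _ => φ.hom) (fun a b => by simp [Subsingleton.elim a b]) (by simp)
    obtain ⟨ψ⟩ := FinCov71.IsFrame.nonempty_iso_freeMod hg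
    exact ⟨U, 1, hx, ⟨(Scheme.Modules.restrictFunctor U.ι).mapIso e ≪≫ ψ⟩⟩
  haveI : PreservesColimitsOfSize.{0, 0} (Scheme.Modules.pullback i) :=
    (Scheme.Modules.pullbackPushforwardAdjunction i).leftAdjoint_preservesColimits
  haveI : Epi ((eulerCx n k).map (Scheme.Modules.pullback i)).g := inferInstanceAs (Epi ((Scheme.Modules.pullback i).map (eulerCx n k).g))
  exact { exact := ShortComplex.exact_of_g_is_cokernel _ (CokernelCofork.mapIsColimit _ hC (Scheme.Modules.pullback i)) }

set_option synthInstance.maxHeartbeats 200000 in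
theorem nonempty_pullback_KK {r : ℕ} (hr : m + 1 + r = n + 1)
    (hO : Nonempty ((Scheme.Modules.pullback i).obj (Twist.twistProjSpace n k 1) ≅ Twist.twistProjSpace m k 1)) :
    Nonempty ((Scheme.Modules.pullback i).obj (KK n k) ≅ KK m k ⊞ EQ m k r) := by
  obtain ⟨e₁⟩ := nonempty_pullNegOne i hO
  haveI : PreservesColimitsOfSize.{0, 0} (Scheme.Modules.pullback i) :=
    (Scheme.Modules.pullbackPushforwardAdjunction i).leftAdjoint_preservesColimits
  let eE : (Scheme.Modules.pullback i).obj (EE n k) ≅ EQ m k (n + 1) :=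
    PreservesCoproduct.iso (Scheme.Modules.pullback i) _ ≪≫ Sigma.mapIso fun _ => e₁
  let σ : EQ m k (n + 1) ⟶ Twist.twistProjSpace m k 0 :=
    eE.inv ≫ (Scheme.Modules.pullback i).map (eulerMap n k) ≫ (pullZeroIso i).hom
  haveI := epi_eulerMap n k
  haveI : Epi σ := inferInstance
  obtain ⟨e⟩ := nonempty_kernel_iso hr σ
  exact ⟨IsLimit.conePointUniqueUpToIso (shortExact_pullback_euler i).fIsKernel (kernelIsKernel _) ≪≫
    kernel.mapIso ((Scheme.Modules.pullback i).map (eulerMap n k)) σ eE (pullZeroIso i)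
      (by simp [σ]) ≪≫ e⟩

end Groth.Agent.EulerSeq
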