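import Groth.Agent.EulerSeq.KerFrame
import Groth.Agent.FinCov71.Rank

/-!
# A simple bundle of rank `n - 1` on `P^n`: the kernel of `O(-2)^(2n-1) ⟶ Ω`
-/

set_option autoImplicit false
set_option backward.isDefEq.respectTransparency false
set_option backward.isDefEq.respectTransparency.types false

universe u

open CategoryTheory Limits AlgebraicGeometry TopologicalSpace Opposite MvPolynomial

noncomputable section

namespace Groth.Agent.EulerSeq

open Twist Groth.Agent.ProjTwist OmegaSh

variable {n : ℕ} {R : Type u} [CommRing R]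

/-- the antisymmetric matrix of the two-form `Σ_{a+b=m, a<b} e_a ∧ e_b` -/
def formEntry (m : Fin (2 * n - 1)) (l a : Fin (n + 1)) : ℤ :=
  if (l : ℕ) + a = m + 1 then (if a < l then 1 else if l < a then -1 else 0) else 0

theorem formEntry_antisymm (m : Fin (2 * n - 1)) (l a : Fin (n + 1)) : formEntry m a l = -formEntry m l a := by
  unfold formEntry
  rw [Nat.add_comm (a : ℕ) l]
  rcases lt_trichotomy a l with h | rfl | h
  · simp [h, h.not_gt, apply_ite Neg.neg]
  · simp
  · simp [h, h.not_gt, apply_ite Neg.neg]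

variable (n R) in
/-- the linear form `(ω_m)_l` -/
def formPoly (m : Fin (2 * n - 1)) (l : Fin (n + 1)) : MvPolynomial (Fin (n + 1)) R :=
  ∑ a, C (formEntry m l a : R) * X a

theorem formPoly_mem (m : Fin (2 * n - 1)) (l : Fin (n + 1)) : formPoly n R m l ∈ CohB1.polyGrading n R 1 :=
  sum_mem fun a _ => (mem_homogeneousSubmodule _ _).mpr (isHomogeneous_C_mul_X _ _)

theorem sum_X_mul_formPoly (m : Fin (2 * n - 1)) : ∑ l, X l * formPoly n R m l = 0 := by
  simp only [formPoly, Finset.mul_sum]
  rw [← Fintype.sum_prod_type']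
  refine Finset.sum_involution (fun p _ => (p.2, p.1)) (fun p _ => ?_) (fun p _ hp h => hp ?_)
    (fun p _ => Finset.mem_univ _) (fun p _ => rfl)
  · rw [formEntry_antisymm m p.1 p.2, Int.cast_neg, map_neg]
    ring
  · obtain ⟨h1, -⟩ := Prod.mk.injEq .. ▸ h
    rw [h1]
    simp [formEntry]

variable (n R)

/-- `O(-2)^(2n-1)` -/
abbrev SS : (CohB1.ProjSpace n R).Modules :=
  ∐ fun _ : Fin (2 * n - 1) => Twist.twistProjSpace n R (-2)

/-- multiplication by `(ω_m)_l` -/
abbrev formHom (m : Fin (2 * n - 1)) (l : Fin (n + 1)) :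
    Twist.twistProjSpace n R (-2) ⟶ Twist.twistProjSpace n R (-1) :=
  SerrePn.mulHom (-2) (-1) (formPoly_mem (R := R) m l) (by norm_num)

theorem formHom_euler (m : Fin (2 * n - 1)) :
    (∑ l, formHom n R m l ≫ Sigma.ι (fun _ : Fin (n + 1) => Twist.twistProjSpace n R (-1)) l) ≫
      eulerMap n R = 0 := by
  simp only [Preadditive.sum_comp, Category.assoc, Sigma.ι_desc]
  refine twist_hom_ext fun U s x hx => ?_
  let ev : (Twist.twistProjSpace n R (-2) ⟶ Twist.twistProjSpace n R 0) →+ Loc (CohB1.polyGrading n R) x :=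
    AddMonoidHom.mk' (fun φ => evN x hx (φ.app U s)) fun φ ψ => map_add (evN x hx) (φ.app U s) (ψ.app U s)
  refine ((map_sum ev _ Finset.univ).trans ?_).trans (map_zero (evN x hx)).symm
  have e : ∀ l, ev (formHom n R m l ≫ mulVar n R l) =
      algebraMap (MvPolynomial (Fin (n + 1)) R) (Loc (CohB1.polyGrading n R) x) (X l * formPoly n R m l) *
        evN x hx s := fun l => by
    show evN x hx ((mulVar n R l).app U ((formHom n R m l).app U s)) = _
    rw [evN_mulVar, evN_mulHom, map_mul, mul_assoc]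
  rw [Finset.sum_congr rfl fun l _ => e l, ← Finset.sum_mul, ← map_sum, sum_X_mul_formPoly, map_zero, zero_mul]

/-- the section `ω_m` of `Ω(2)` -/
def formKK (m : Fin (2 * n - 1)) : Twist.twistProjSpace n R (-2) ⟶ KK n R :=
  kernel.lift (eulerMap n R) _ (formHom_euler n R m)

/-- `O(-2)^(2n-1) ⟶ Ω` -/
abbrev tangoMap : SS n R ⟶ KK n R := Sigma.desc (formKK n R)

variable {n R}

theorem ι_app_formKK {U : (CohB1.ProjSpace n R).Opens} (m : Fin (2 * n - 1)) (l : Fin (n + 1))
    (s : Γ(Twist.twistProjSpace n R (-2), U)) (x : ProjectiveSpectrum (CohB1.polyGrading n R)) (hx : x ∈ U) :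
    cpt l x hx ((formKK n R m).app U s) =
      algebraMap (MvPolynomial (Fin (n + 1)) R) (Loc (CohB1.polyGrading n R) x) (formPoly n R m l) *
        evN x hx s := by
  have e : formKK n R m ≫ kernel.ι (eulerMap n R) ≫ prE n R l = formHom n R m l := by
    rw [formKK, kernel.lift_ι_assoc, Preadditive.sum_comp, Finset.sum_eq_single l]
    · rw [Category.assoc, ι_prE, if_pos rfl, Category.comp_id]
    · intro l' _ hl
      rw [Category.assoc, ι_prE, if_neg hl, comp_zero]
    · intro hn; exact absurd (Finset.mem_univ l) hn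
  show evN x hx ((formKK n R m ≫ kernel.ι (eulerMap n R) ≫ prE n R l).app U s) = _
  rw [e, evN_mulHom]

/-! ## Frames -/

theorem X_sq_mem (i : Fin (n + 1)) : (X i ^ 2 : MvPolynomial (Fin (n + 1)) R) ∈ CohB1.polyGrading n R 2 :=
  (mem_homogeneousSubmodule _ _).mpr (by simpa using (isHomogeneous_X R i).pow 2)

theorem stdOpen_le_sq (i : Fin (n + 1)) :
    stdOpen n R i ≤ Proj.basicOpen (CohB1.polyGrading n R) (X i ^ 2 : MvPolynomial (Fin (n + 1)) R) := fun z hz =>
  (Proj.mem_basicOpen _ _ _).mpr fun hc =>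
    (Proj.mem_basicOpen _ _ _).mp hz ((z : ProjectiveSpectrum _).isPrime.mem_of_pow_mem 2 hc)

/-- `1 / x_i ^ 2` -/
def invSqSec (i : Fin (n + 1)) : Γ(Twist.twistProjSpace n R (-2), stdOpen n R i) :=
  (denSec (X_sq_mem (R := R) i) (stdOpen_le_sq i) :
    sectN (𝒜 := CohB1.polyGrading n R) (-((2 : ℕ) : ℤ)) (op (stdOpen n R i)))

theorem evN_invSqSec (i : Fin (n + 1)) (x : ProjectiveSpectrum (CohB1.polyGrading n R)) (hx : x ∈ stdOpen n R i) :
    evN x hx (invSqSec i) = invX i le_rfl x hx ^ 2 := by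
  rw [invX, Localization.mk_pow, one_pow]
  rfl

variable (n R) in
/-- projection -/
def prS (m : Fin (2 * n - 1)) : SS n R ⟶ Twist.twistProjSpace n R (-2) :=
  open Classical in Sigma.desc fun m' => if m' = m then 𝟙 _ else 0

theorem sum_prS : ∑ m, prS n R m ≫ Sigma.ι (fun _ : Fin (2 * n - 1) => Twist.twistProjSpace n R (-2)) m =
    𝟙 (SS n R) := by
  classical
  refine Sigma.hom_ext _ _ fun m => ?_
  simp [prS, Preadditive.comp_sum, ite_comp]

theorem prS_ι {U : (CohB1.ProjSpace n R).Opens} (l m : Fin (2 * n - 1)) (s : Γ(Twist.twistProjSpace n R (-2), U)) :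
    (prS n R l).app U ((Sigma.ι (fun _ : Fin (2 * n - 1) => Twist.twistProjSpace n R (-2)) m).app U s) =
      if m = l then s else 0 := by
  classical
  refine (congrArg (fun φ : Twist.twistProjSpace n R (-2) ⟶ Twist.twistProjSpace n R (-2) => φ.app U s)
    (Sigma.ι_desc (fun m' : Fin (2 * n - 1) => if m' = l then 𝟙 (Twist.twistProjSpace n R (-2)) else 0) m)).trans ?_
  split_ifs <;> rfl

theorem exists_eq_smul_invSq (i : Fin (n + 1)) {V : (CohB1.ProjSpace n R).Opens} (hV : V ≤ stdOpen n R i)
    (z : Γ(Twist.twistProjSpace n R (-2), V)) :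
    ∃ c : Γ(CohB1.ProjSpace n R, V),
      c • (Twist.twistProjSpace n R (-2)).presheaf.map (homOfLE hV).op (invSqSec i) = z := by
  obtain ⟨a, ha⟩ := exists_O_of_sectN_zero
    (mulSec (show ((2 : ℕ) : ℤ) + -2 = 0 by norm_num) (numSec (X_sq_mem (R := R) i) (op V))
      (show sectN (𝒜 := CohB1.polyGrading n R) (-2) (op V) from z))
  refine ⟨(show Γ(CohB1.ProjSpace n R, V) from a), evN_ext fun x hx => ?_⟩
  have e : valAt (show Γ(CohB1.ProjSpace n R, V) from a) x hx =
      algebraMap (MvPolynomial (Fin (n + 1)) R) (Loc (CohB1.polyGrading n R) x) (X i ^ 2) * evN x hx z := by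
    refine (ha ⟨x, hx⟩).trans ((mulSec_coe _ _ _ ⟨x, hx⟩).trans ?_)
    exact congrArg (· * _) (numSec_coe _ _ ⟨x, hx⟩)
  rw [evN_smul, evN_res, evN_invSqSec, e, map_pow, mul_right_comm, ← mul_pow]
  show (_ * invX i hV x hx) ^ 2 * _ = _
  rw [X_mul_invX, one_pow, one_mul]

/-- generators of `O(-2)^(2n-1)` -/
def genS (i : Fin (n + 1)) (m : Fin (2 * n - 1)) : Γ(SS n R, stdOpen n R i) :=
  (Sigma.ι (fun _ : Fin (2 * n - 1) => Twist.twistProjSpace n R (-2)) m).app _ (invSqSec i)

theorem isFrame_genS (i : Fin (n + 1)) : LFFrame.IsFrame (SS n R) (stdOpen n R i) (genS i) := by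
  intro V hV
  let d : Γ(Twist.twistProjSpace n R (-2), V) :=
    (Twist.twistProjSpace n R (-2)).presheaf.map (homOfLE hV).op (invSqSec i)
  have hcomb : ∀ a : Fin (2 * n - 1) → Γ(CohB1.ProjSpace n R, V), LFFrame.comb (SS n R) (genS i) hV a =
      ∑ m, (Sigma.ι (fun _ : Fin (2 * n - 1) => Twist.twistProjSpace n R (-2)) m).app V (a m • d) := fun a =>
    Finset.sum_congr rfl fun m _ => by
      rw [Scheme.Modules.Hom.app_smul]
      exact congrArg (a m • ·) (PresheafOfModules.naturality_apply
        (Sigma.ι (fun _ : Fin (2 * n - 1) => Twist.twistProjSpace n R (-2)) m).val (homOfLE hV).op (invSqSec i)).symm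
  constructor
  · intro a b h
    rw [hcomb, hcomb] at h
    funext m
    have h2 := congrArg ((prS n R m).app V) h
    rw [map_sum, map_sum] at h2
    simp only [prS_ι, Finset.sum_ite_eq', Finset.mem_univ, if_true] at h2
    refine valAt_ext fun x hx => ?_
    have h3 := congrArg (fun s => evN x hx s * algebraMap (MvPolynomial (Fin (n + 1)) R)
      (Loc (CohB1.polyGrading n R) x) (X i) ^ 2) h2
    simp only [evN_smul, d, evN_res, evN_invSqSec, mul_assoc, ← mul_pow] at h3
    have e : invX i le_rfl x (hV hx) * algebraMap (MvPolynomial (Fin (n + 1)) R)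
        (Loc (CohB1.polyGrading n R) x) (X i) = 1 := (mul_comm _ _).trans (X_mul_invX i le_rfl x (hV hx))
    rwa [e, one_pow, mul_one, mul_one] at h3
  · intro z
    choose c hc using fun m => exists_eq_smul_invSq i hV ((prS n R m).app V z)
    refine ⟨c, (hcomb c).trans ?_⟩
    simp only [d, hc]
    let ev : (SS n R ⟶ SS n R) →+ Γ(SS n R, V) := AddMonoidHom.mk' (fun φ => φ.app V z) fun φ ψ => rfl
    exact (map_sum ev (fun m => prS n R m ≫ Sigma.ι (fun _ : Fin (2 * n - 1) => Twist.twistProjSpace n R (-2)) m)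
      Finset.univ).symm.trans (congrArg ev sum_prS)

/-- the form spanning the direction of `x_l` near a point where `x_i` is the first nonzero coordinate -/
def selIdx (i : Fin (n + 1)) (j : Fin n) : Fin (2 * n - 1) :=
  ⟨(i : ℕ) + (i.succAbove j : ℕ) - 1, by
    have h := Fin.val_ne_of_ne (Fin.succAbove_ne i j)
    have := i.2
    have := (i.succAbove j).2
    omega⟩

theorem selIdx_val (i : Fin (n + 1)) (j : Fin n) : (selIdx i j : ℕ) + 1 = i + i.succAbove j := by
  have h := Fin.val_ne_of_ne (Fin.succAbove_ne i j)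
  simp only [selIdx]
  omega

theorem selIdx_injective (i : Fin (n + 1)) : Function.Injective (selIdx i) := fun j j' h =>
  Fin.succAbove_right_injective (p := i) (Fin.ext (by have := selIdx_val i j; have := selIdx_val i j'; rw [h] at *; omega))

/-- coefficient of the selected forms in the frame of `Ω` on `D₊(x_i)` -/
def selMat (i : Fin (n + 1)) : Matrix (Fin n) (Fin n) Γ(CohB1.ProjSpace n R, stdOpen n R i) :=
  Matrix.of fun j k => ∑ a, formEntry (selIdx i j) (i.succAbove k) a • tFun i a le_rfl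

theorem isUnit_det_selMat (i : Fin (n + 1)) (y : CohB1.ProjSpace n R) (hy : y ∈ stdOpen n R i)
    (hmin : ∀ a, y ∈ stdOpen n R a → i ≤ a) :
    IsUnit ((CohB1.ProjSpace n R).presheaf.germ (stdOpen n R i) y hy (selMat (R := R) i).det) := by
  let O := (CohB1.ProjSpace n R).presheaf.stalk y
  let v : Γ(CohB1.ProjSpace n R, stdOpen n R i) →+* IsLocalRing.ResidueField O :=
    (IsLocalRing.residue O).comp ((CohB1.ProjSpace n R).presheaf.germ (stdOpen n R i) y hy).hom
  have h0 : ∀ a, a < i → v (tFun i a le_rfl) = 0 := fun a ha => by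
    refine (IsLocalRing.residue_eq_zero_iff _).mpr ((IsLocalRing.mem_maximalIdeal _).mpr fun hu => ?_)
    have h1 := ((CohB1.ProjSpace n R).mem_basicOpen _ y hy).mpr hu
    exact (hmin a ((basicOpen_fracFun _ _ _).le h1).2).not_gt ha
  have h1 : v (tFun i i le_rfl) = 1 := by
    rw [show tFun (R := R) i i (le_refl (stdOpen n R i)) = 1 from fracFun_self _ _, map_one]
  have hlow : ∀ j k : Fin n, ∀ a : Fin (n + 1), (i.succAbove k : ℕ) + a = i + i.succAbove j → j < k → a < i :=
    fun j k a h hjk => by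
      have : (i.succAbove j : ℕ) < i.succAbove k := Fin.strictMono_succAbove i hjk
      exact Fin.lt_def.mpr (by omega)
  refine (IsLocalRing.notMem_maximalIdeal).mp fun hm => ?_
  have hd : v (selMat i).det = 0 := (IsLocalRing.residue_eq_zero_iff _).mpr hm
  rw [RingHom.map_det, Matrix.det_of_isLowerTriangular] at hd
  · refine (Finset.prod_ne_zero_iff.mpr fun j _ => ?_) hd
    simp only [RingHom.mapMatrix_apply, Matrix.map_apply, selMat, Matrix.of_apply, map_sum, map_zsmul]
    rw [Finset.sum_eq_single i]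
    · rw [h1]
      have hne : i.succAbove j ≠ i := Fin.succAbove_ne i j
      rw [formEntry, if_pos (by rw [selIdx_val]; omega)]
      rcases lt_or_gt_of_ne hne with h | h
      · simp [h, h.not_gt]
      · simp [h]
    · intro a _ ha
      rw [formEntry, if_neg (fun h => ha (Fin.ext (by rw [selIdx_val] at h; omega))), zero_smul]
    · simp
  · intro j k hjk
    simp only [RingHom.mapMatrix_apply, Matrix.map_apply, selMat, Matrix.of_apply, map_sum, map_zsmul]
    refine Finset.sum_eq_zero fun a _ => ?_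
    by_cases h : (i.succAbove k : ℕ) + a = selIdx i j + 1
    · rw [h0 a (hlow j k a (h.trans (selIdx_val i j)) hjk), smul_zero]
    · rw [formEntry, if_neg h, zero_smul]

theorem tangoMap_genS (i : Fin (n + 1)) (j : Fin n) :
    (tangoMap n R).app _ (genS i (selIdx i j)) =
      ∑ k, selMat (R := R) i j k • dKK (stdOpen n R i) (tFun i (i.succAbove k) le_rfl) := by
  have e : (tangoMap n R).app _ (genS i (selIdx i j)) =
      (formKK n R (selIdx i j)).app (stdOpen n R i) (invSqSec i) :=
    congrArg (fun φ : Twist.twistProjSpace n R (-2) ⟶ KK n R => φ.app _ (invSqSec i))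
      (Sigma.ι_desc (formKK n R) (selIdx i j))
  rw [e]
  refine KK_ext i le_rfl fun k x hx => ?_
  rw [ι_app_formKK, evN_invSqSec, cpt_dKK_tFun]
  let va : Γ(CohB1.ProjSpace n R, stdOpen n R i) →+ Loc (CohB1.polyGrading n R) x :=
    AddMonoidHom.mk' (fun c => valAt c x hx) fun c d => valAt_add c d x hx
  rw [show valAt (selMat (R := R) i j k) x hx = va (selMat (R := R) i j k) from rfl, selMat, Matrix.of_apply, map_sum,
    formPoly, map_sum, Finset.sum_mul, Finset.sum_mul]
  refine Finset.sum_congr rfl fun a _ => ?_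
  rw [map_zsmul, show va (tFun i a le_rfl) = valAt (tFun (R := R) i a le_rfl) x hx from rfl, valAt_tFun, map_mul,
    map_intCast, map_intCast, zsmul_eq_mul]
  ring

set_option maxHeartbeats 1600000 in
theorem exists_frame_tango (y : CohB1.ProjSpace n R) :
    ∃ (U : (CohB1.ProjSpace n R).Opens) (s : Fin (2 * n - 1) → Γ(SS n R, U)) (J : Fin n → Fin (2 * n - 1)),
      y ∈ U ∧ Function.Injective J ∧ LFFrame.IsFrame (SS n R) U s ∧
        LFFrame.IsFrame (KK n R) U fun j => (tangoMap n R).app U (s (J j)) := by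
  classical
  obtain ⟨i₀, hi₀⟩ := Opens.mem_iSup.mp ((iSup_stdOpen n R).ge (trivial : y ∈ (⊤ : (CohB1.ProjSpace n R).Opens)))
  obtain ⟨i, hi, hmin⟩ := (Finset.univ.filter fun a => y ∈ stdOpen n R a).exists_min_image id ⟨i₀, by simpa⟩
  simp only [Finset.mem_filter, Finset.mem_univ, true_and, id_eq] at hi hmin
  let W := (CohB1.ProjSpace n R).basicOpen (selMat (R := R) i).det
  have hW : W ≤ stdOpen n R i := (CohB1.ProjSpace n R).basicOpen_le _
  refine ⟨W, fun m => (SS n R).presheaf.map (homOfLE hW).op (genS i m), selIdx i,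
    ((CohB1.ProjSpace n R).mem_basicOpen _ y hi).mpr (isUnit_det_selMat i y hi hmin), selIdx_injective i,
    isFrame_res (isFrame_genS i) hW, ?_⟩
  have h := isFrame_change (isFrame_KK (R := R) i) (selMat i) (fun j => (tangoMap n R).app _ (genS i (selIdx i j)))
    (tangoMap_genS i)
  exact (congrArg (LFFrame.IsFrame (KK n R) W) (funext fun j =>
    PresheafOfModules.naturality_apply (tangoMap n R).val (homOfLE hW).op (genS i (selIdx i j)))).mpr h

theorem epi_tangoMap : Epi (tangoMap n R) :=
  epi_of_frames _ fun y => by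
    obtain ⟨U, s, J, hy, -, -, hg⟩ := exists_frame_tango (R := R) y
    exact ⟨U, n, fun j => s (J j), hy, hg⟩

theorem isFinLocFreeOfRank_tango : FlatMod.IsFinLocFreeOfRank (n - 1) (kernel (tangoMap n R)) :=
  FinCov71.isFinLocFreeOfRank_of_frames fun y => by
    classical
    obtain ⟨U, s, J, hy, hJ, hs, hg⟩ := exists_frame_tango (R := R) y
    let T : Finset (Fin (2 * n - 1)) := Finset.univ.image J
    have hT : T.card = n := by simp [T, Finset.card_image_of_injective _ hJ]
    have hTc : Tᶜ.card = n - 1 := by rw [Finset.card_compl, hT, Fintype.card_fin]; omega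
    let f : Fin (n - 1) ⊕ Fin n → Fin (2 * n - 1) := Sum.elim (Tᶜ.orderEmbOfFin hTc) J
    have hf : Function.Bijective f := by
      refine (Fintype.bijective_iff_injective_and_card _).mpr ⟨Function.Injective.sumElim
        (Tᶜ.orderEmbOfFin hTc).injective hJ fun a b h => ?_, by simp; omega⟩
      have := Finset.orderEmbOfFin_mem Tᶜ hTc a
      rw [Finset.mem_compl, h] at this
      exact this (Finset.mem_image_of_mem J (Finset.mem_univ b))
    obtain ⟨k, hk⟩ := exists_frame_kernel (tangoMap n R) s hs (Equiv.ofBijective f hf) hg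
    exact ⟨U, k, hy, hk⟩

/-! ## Simplicity -/

section Simple

local instance : (CohB1.ProjSpace n R).Over (Spec (CommRingCat.of R)) := ⟨CohB1.ProjSpace.toSpec n R⟩
local instance : HasExt.{u} (CohB1.ProjSpace n R).Modules := Groth.Agent.ModShf.schemeModulesHasExt _

theorem coeff_forms_eq_zero {c : Fin (2 * n - 1) → R} (h : ∑ m, c m • formKK n R m = 0) : c = 0 := by
  funext m
  have hm := m.2
  obtain ⟨l, a, hla, hlt⟩ : ∃ l a : Fin (n + 1), (l : ℕ) + a = m + 1 ∧ a < l := by
    rcases Nat.le_total ((m : ℕ) + 1) n with h' | h'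
    · exact ⟨⟨m + 1, by omega⟩, 0, by simp, by simp [Fin.lt_def]⟩
    · exact ⟨⟨n, by omega⟩, ⟨m + 1 - n, by omega⟩, by simp; omega, by simp [Fin.lt_def]; omega⟩
  have e : formKK n R m ≫ kernel.ι (eulerMap n R) ≫ prE n R l = formHom n R m l := by
    rw [formKK, kernel.lift_ι_assoc, Preadditive.sum_comp, Finset.sum_eq_single l]
    · rw [Category.assoc, ι_prE, if_pos rfl, Category.comp_id]
    · intro l' _ hl
      rw [Category.assoc, ι_prE, if_neg hl, comp_zero]
    · intro hn; exact absurd (Finset.mem_univ l) hn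
  have h1 : ∑ m', c m' • formHom n R m' l = 0 := by
    have := congrArg (· ≫ kernel.ι (eulerMap n R) ≫ prE n R l) h
    simp only [Preadditive.sum_comp, Linear.smul_comp, zero_comp] at this
    refine Eq.trans (Finset.sum_congr rfl fun m' _ => congrArg (c m' • ·) ?_) this
    rw [formKK, kernel.lift_ι_assoc, Preadditive.sum_comp, Finset.sum_eq_single l]
    · rw [Category.assoc, ι_prE, if_pos rfl, Category.comp_id]
    · intro l' _ hl
      rw [Category.assoc, ι_prE, if_neg hl, comp_zero]
    · intro hn; exact absurd (Finset.mem_univ l) hn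
  let p : MvPolynomial (Fin (n + 1)) R := ∑ m', C (c m') * formPoly n R m' l
  have hp : p ∈ CohB1.polyGrading n R 1 := sum_mem fun m' _ => (mem_homogeneousSubmodule _ _).mpr
    (((mem_homogeneousSubmodule _ _).mp (formPoly_mem (R := R) m' l)).C_mul _)
  have h0 : (0 : MvPolynomial (Fin (n + 1)) R) ∈ CohB1.polyGrading n R 1 := zero_mem _
  have e2 : SerrePn.mulHom (-2) (-1) hp (by norm_num) = SerrePn.mulHom (-2) (-1) h0 (by norm_num) := by
    refine twist_hom_ext fun U s x hx => ?_
    let ev : (Twist.twistProjSpace n R (-2) ⟶ Twist.twistProjSpace n R (-1)) →+ Loc (CohB1.polyGrading n R) x :=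
      AddMonoidHom.mk' (fun φ => evN x hx (φ.app U s)) fun φ ψ => map_add (evN x hx) (φ.app U s) (ψ.app U s)
    rw [evN_mulHom, evN_mulHom, map_zero, zero_mul, map_sum, Finset.sum_mul]
    refine Eq.trans ?_ ((map_sum ev _ Finset.univ).symm.trans ((congrArg ev h1).trans (map_zero ev)))
    refine Finset.sum_congr rfl fun m' _ => ?_
    rw [show c m' • formHom n R m' l = (c m' • 𝟙 _) ≫ formHom n R m' l by rw [Linear.smul_comp, Category.id_comp]]
    show _ = evN x hx ((formHom n R m' l).app U ((c m' • 𝟙 (Twist.twistProjSpace n R (-2))).app U s))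
    rw [evN_mulHom, KLin.smul_id, evN_smulMod, map_mul]
    ring
  have e3 := congrArg SerrePn.mult e2
  rw [SerrePn.mult_mulHom, SerrePn.mult_mulHom] at e3
  have h4 := congrArg (coeff (Finsupp.single a 1)) (Pn.toLau_injective e3)
  simp only [p, formPoly, coeff_sum, coeff_zero, coeff_C_mul, coeff_X', Finsupp.single_left_inj one_ne_zero,
    mul_ite, mul_one, mul_zero, Finset.sum_ite_eq', Finset.mem_univ, if_true] at h4
  rw [Finset.sum_eq_single m] at h4
  · simpa [formEntry, hla, hlt] using h4
  · intro m' _ hm'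
    rw [formEntry, if_neg (fun h => hm' (Fin.ext (by omega))), Int.cast_zero, mul_zero]
  · simp

theorem exists_endTango_eq_smul (φ : kernel (tangoMap n R) ⟶ kernel (tangoMap n R)) :
    ∃ c : R, φ = c • 𝟙 _ := by
  classical
  haveI := epi_tangoMap (n := n) (R := R)
  let S : ShortComplex (CohB1.ProjSpace n R).Modules :=
    ShortComplex.mk (kernel.ι (tangoMap n R)) (tangoMap n R) (kernel.condition _)
  have hS : S.ShortExact := { exact := ShortComplex.exact_of_f_is_kernel _ (kernelIsKernel (tangoMap n R)) }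
  have h : Subsingleton (Abelian.Ext S.X₃ (Twist.twistProjSpace n R (-2)) 1) := subsingleton_ext_one_KK
  choose χ hχ using fun m : Fin (2 * n - 1) => Abelian.Ext.contravariant_sequence_exact₁ hS _
    (Abelian.Ext.mk₀ (φ ≫ kernel.ι (tangoMap n R) ≫ prS n R m)) (show 1 + 0 = 1 from rfl) (Subsingleton.elim _ _)
  choose χ' hχ' using fun m => (Abelian.Ext.mk₀_bijective _ _).2 (χ m)
  simp only [← hχ', Abelian.Ext.mk₀_comp_mk₀] at hχ
  let α : SS n R ⟶ SS n R :=
    ∑ m, χ' m ≫ Sigma.ι (fun _ : Fin (2 * n - 1) => Twist.twistProjSpace n R (-2)) m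
  have hα : kernel.ι (tangoMap n R) ≫ α = φ ≫ kernel.ι (tangoMap n R) := by
    have h2 : ∀ m, kernel.ι (tangoMap n R) ≫ χ' m = φ ≫ kernel.ι (tangoMap n R) ≫ prS n R m :=
      fun m => (Abelian.Ext.mk₀_bijective _ _).1 (hχ m)
    simp only [α, Preadditive.comp_sum, ← Category.assoc, h2]
    simp only [Category.assoc, ← Preadditive.comp_sum, sum_prS, Category.comp_id]
  obtain ⟨β, hβ⟩ : ∃ β, tangoMap n R ≫ β = α ≫ tangoMap n R :=
    ⟨hS.exact.desc _ (by rw [← Category.assoc, hα, Category.assoc, kernel.condition, comp_zero]),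
      hS.exact.g_desc _ _⟩
  obtain ⟨c, rfl⟩ := exists_endKK_eq_smul β
  rw [Linear.comp_smul, Category.comp_id] at hβ
  refine ⟨c, ?_⟩
  choose M hM using fun l m => exists_smul_id
    (Sigma.ι (fun _ : Fin (2 * n - 1) => Twist.twistProjSpace n R (-2)) l ≫ χ' m)
  have key : ∀ l m, M l m = if m = l then c else 0 := by
    intro l
    have e : ∑ m, (M l m - if m = l then c else 0) • formKK n R m = 0 := by
      have h1 := congrArg (Sigma.ι (fun _ : Fin (2 * n - 1) => Twist.twistProjSpace n R (-2)) l ≫ ·) hβ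
      simp only [α, Linear.comp_smul, Preadditive.sum_comp, Preadditive.comp_sum, Category.assoc,
        Sigma.ι_desc] at h1
      simp only [← Category.assoc, hM, Linear.smul_comp, Category.id_comp] at h1
      simp only [sub_smul, Finset.sum_sub_distrib, ← h1, ite_smul, zero_smul, Finset.sum_ite_eq',
        Finset.mem_univ, if_true, sub_self]
    intro m
    exact sub_eq_zero.mp (congrFun (coeff_forms_eq_zero e) m)
  have hα2 : α = c • 𝟙 _ := Sigma.hom_ext _ _ fun l => by
    simp only [α, Preadditive.comp_sum, ← Category.assoc, hM, key, Linear.smul_comp, Category.id_comp,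
      Linear.comp_smul, Category.comp_id]
    rw [Finset.sum_eq_single l (fun m _ hm => by rw [if_neg hm, zero_smul]) (by simp), if_pos rfl]
  rw [← cancel_mono (kernel.ι (tangoMap n R)), ← hα, hα2, Linear.comp_smul, Category.comp_id, Linear.smul_comp,
    Category.id_comp]

end Simple

end Groth.Agent.EulerSeq
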